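import Groth.Agent.TwDescLib.Equiv

/-!
# Inverse images along a functor with locally surjective objects
-/

set_option autoImplicit false
set_option linter.all false
set_option backward.isDefEq.respectTransparency false
set_option backward.isDefEq.respectTransparency.types false
set_option maxHeartbeats 800000

noncomputable section

universe u v w v' w' t

open CategoryTheory CategoryTheory.Limits AlgebraicGeometry TopologicalSpace Opposite
open KFlatLib (pb)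

namespace TwDescLib

/-- Transport of a module along an equality of schemes, as an isomorphism of pairs. -/
def castObjIso {X T : Scheme.{u}} (h : X = T) (M : X.Modules) : (⟨T, StMod.castMod h M⟩ : MObj.{u}) ≅ ⟨X, M⟩ :=
  eqToIso (by subst h; rfl)

theorem castObjIso_rfl {X : Scheme.{u}} (M : X.Modules) :
    castObjIso (rfl : X = X) M = Iso.refl (⟨X, M⟩ : MObj.{u}) := rfl

theorem castObjIso_hom_g {X T : Scheme.{u}} (h : X = T) (M : X.Modules) :
    (castObjIso h M).hom.g = eqToHom h.symm := by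
  subst h; rfl

theorem castObjIso_inv_g {X T : Scheme.{u}} (h : X = T) (M : X.Modules) :
    (castObjIso h M).inv.g = eqToHom h := by
  subst h; rfl

theorem castObjIso_nat {X X' T T' : Scheme.{u}} (hX : X = T) (hX' : X' = T') {g₁ : X' ⟶ X} {g : T' ⟶ T}
    (hg : g₁ ≫ eqToHom hX = eqToHom hX' ≫ g) {M : X.Modules} {N : X'.Modules}
    (m : M ⟶ (Scheme.Modules.pushforward g₁).obj N) :
    (castObjIso hX' N).hom ≫ (⟨g₁, m⟩ : (⟨X', N⟩ : MObj.{u}) ⟶ ⟨X, M⟩) =
      (⟨g, StMod.castMap hX hX' hg m⟩ : (⟨T', StMod.castMod hX' N⟩ : MObj.{u}) ⟶ ⟨T, StMod.castMod hX M⟩) ≫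
        (castObjIso hX M).hom := by
  subst hX hX'
  obtain rfl : g₁ = g := by simpa using hg
  rw [StMod.castMap_rfl_self, castObjIso_rfl, castObjIso_rfl]
  exact (Category.id_comp (X := (⟨X', N⟩ : MObj)) (Y := ⟨X, M⟩) _).trans
    (Category.comp_id (X := (⟨X', N⟩ : MObj)) (Y := ⟨X, M⟩) _).symm

theorem castObjIso_map {X T : Scheme.{u}} (h : X = T) {M N : X.Modules} (a : M ⟶ N) :
    vert (StMod.castHom h a) ≫ (castObjIso h M).hom = (castObjIso h N).hom ≫ vert a := by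
  subst h
  rw [castObjIso_rfl, castObjIso_rfl]
  exact (Category.comp_id _).trans (Category.id_comp _).symm

variable {S : Scheme.{u}} {𝒳 : BasedCategory.{v', w'} (Over S)} {𝒴 : BasedCategory.{v, w} (Over S)}
  (π : 𝒳 ⥤ᵇ 𝒴)

/-- The value of an inverse image. -/
def ci (F : StMod.Mod 𝒴) (x : 𝒳.obj) : tot (StMod.Mod.comap π F) x ≅ tot F (π.obj x) :=
  castObjIso (StMod.sch_obj_eq π x) (F.obj (π.obj x))

theorem ci_hom_g (F : StMod.Mod 𝒴) (x : 𝒳.obj) : (ci π F x).hom.g = eqToHom (StMod.sch_obj_eq π x).symm :=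
  castObjIso_hom_g _ _

theorem ci_inv_g (F : StMod.Mod 𝒴) (x : 𝒳.obj) : (ci π F x).inv.g = eqToHom (StMod.sch_obj_eq π x) :=
  castObjIso_inv_g _ _

@[reassoc]
theorem ci_nat (F : StMod.Mod 𝒴) {x' x : 𝒳.obj} (φ : x' ⟶ x) :
    (ci π F x').hom ≫ totMap F (π.map φ) = totMap (StMod.Mod.comap π F) φ ≫ (ci π F x).hom :=
  castObjIso_nat (StMod.sch_obj_eq π x) (StMod.sch_obj_eq π x') (StMod.bmap_map_comm π φ rfl) _

@[reassoc]
theorem ci_nat' (F : StMod.Mod 𝒴) {x' x : 𝒳.obj} (φ : x' ⟶ x) :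
    totMap F (π.map φ) ≫ (ci π F x).inv = (ci π F x').inv ≫ totMap (StMod.Mod.comap π F) φ := by
  rw [Iso.eq_inv_comp, ci_nat_assoc, Iso.hom_inv_id, Category.comp_id]

@[reassoc]
theorem ci_map {F G : StMod.Mod 𝒴} (a : F ⟶ G) (x : 𝒳.obj) :
    vert ((StMod.Mod.comapMap π a).app x) ≫ (ci π F x).hom = (ci π G x).hom ≫ vert (a.app (π.obj x)) :=
  castObjIso_map _ _

variable [FibCat.IsFibGrpd 𝒴.p]

/-- A morphism of inverse images natural for all morphisms between images descends. -/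
theorem exists_hom_of_comap (hf : LocImage (fun x => π.obj x)) {F G : StMod.Mod 𝒴} (hG : StMod.isQCoh 𝒴 G)
    (ψ : StMod.Mod.comap π F ⟶ StMod.Mod.comap π G)
    (hnat : ∀ {x' x : 𝒳.obj} (h : π.obj x' ⟶ π.obj x),
      ((ci π G x').inv ≫ vert (ψ.app x') ≫ (ci π F x').hom) ≫ totMap F h =
        totMap G h ≫ (ci π G x).inv ≫ vert (ψ.app x) ≫ (ci π F x).hom) :
    ∃ a : F ⟶ G, StMod.Mod.comapMap π a = ψ := by
  let χ : ∀ x : 𝒳.obj, tot (StMod.Mod.comap (indIncl (fun x => π.obj x)) G) x ⟶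
      tot (StMod.Mod.comap (indIncl (fun x => π.obj x)) F) x :=
    fun x => (ci π G x).inv ≫ vert (ψ.app x) ≫ (ci π F x).hom
  have hχg : ∀ x, (χ x).g = 𝟙 _ := fun x => by
    show (ci π G x).inv.g ≫ 𝟙 _ ≫ (ci π F x).hom.g = _
    rw [ci_hom_g, ci_inv_g, Category.id_comp, eqToHom_trans, eqToHom_refl]
    rfl
  obtain ⟨ψ', hψ'⟩ := exists_hom_of_arr (F := StMod.Mod.comap (indIncl (fun x => π.obj x)) F)
      (G := StMod.Mod.comap (indIncl (fun x => π.obj x)) G) χ hχg fun {x' x} l => by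
    obtain ⟨l⟩ := l
    show χ x' ≫ mA (StMod.Mod.comap (indIncl fun x => π.obj x) F) l =
      mA (StMod.Mod.comap (indIncl fun x => π.obj x) G) l ≫ χ x
    rw [totMap_comap_incl, totMap_comap_incl]
    exact hnat l
  obtain ⟨a, ha⟩ := exists_hom_of_incl hf hG ψ'
  refine ⟨a, StMod.Mod.hom_ext fun x => vert_injective ((cancel_mono (ci π F x).hom).1 ?_)⟩
  rw [ci_map, ha]
  refine (congrArg ((ci π G x).hom ≫ ·) (hψ' x)).trans ?_
  exact (ci π G x).hom_inv_id_assoc _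

theorem comap_hom_injective (hf : LocImage (fun x => π.obj x)) {F G : StMod.Mod 𝒴} (hG : G.IsCartesian)
    {a b : F ⟶ G} (h : StMod.Mod.comapMap π a = StMod.Mod.comapMap π b) : a = b := by
  refine comap_incl_hom_injective hf hG fun x => vert_injective ((cancel_epi (ci π G x).hom).1 ?_)
  rw [← ci_map, ← ci_map, h]

theorem faithful_comapQ (hf : LocImage (fun x => π.obj x)) : (StMod.comapQ π).Faithful :=
  ⟨fun {F G a b} h => by
    have h' := congrArg InducedCategory.Hom.hom h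
    exact InducedCategory.hom_ext (comap_hom_injective π hf G.property.1 h')⟩

/-- A module with comparison arrows for all morphisms between images descends. -/
theorem exists_descend' (hf : LocImage (fun x => π.obj x)) (F : StMod.Mod 𝒳) (hF : StMod.isQCoh 𝒳 F)
    (E : ∀ {x' x : 𝒳.obj}, (π.obj x' ⟶ π.obj x) → (tot F x' ⟶ tot F x))
    (hg : ∀ {x' x : 𝒳.obj} (h : π.obj x' ⟶ π.obj x),
      eqToHom (StMod.sch_obj_eq π x') ≫ (E h).g = StMod.bmap 𝒴 h ≫ eqToHom (StMod.sch_obj_eq π x))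
    (hid : ∀ x : 𝒳.obj, E (𝟙 (π.obj x)) = 𝟙 _)
    (hcomp : ∀ {x'' x' x : 𝒳.obj} (h : π.obj x'' ⟶ π.obj x') (h' : π.obj x' ⟶ π.obj x), E (h ≫ h') = E h ≫ E h')
    (hcart : ∀ {x' x : 𝒳.obj} (h : π.obj x' ⟶ π.obj x), Cart (E h))
    (hext : ∀ {x' x : 𝒳.obj} (φ : x' ⟶ x), E (π.map φ) = totMap F φ) :
    ∃ (G : StMod.QCoh 𝒴) (χ : ∀ x, tot F x ⟶ tot G.obj (π.obj x)), (∀ x, IsIso (χ x)) ∧
      (∀ x, (χ x).g = eqToHom (StMod.sch_obj_eq π x).symm) ∧
      ∀ {x' x : 𝒳.obj} (h : π.obj x' ⟶ π.obj x), E h ≫ χ x = χ x' ≫ totMap G.obj h := by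
  let Q : ∀ x : (ind (fun x => π.obj x)).obj, (StMod.sch (ind (fun x => π.obj x)) x).Modules :=
    fun x => StMod.castMod (StMod.sch_obj_eq π x).symm (F.obj x)
  let c : ∀ x : 𝒳.obj, (⟨StMod.sch 𝒴 (π.obj x), Q x⟩ : MObj.{u}) ≅ tot F x :=
    fun x => castObjIso (StMod.sch_obj_eq π x).symm (F.obj x)
  let arr : ∀ {x' x : (ind (fun x => π.obj x)).obj} (l : x' ⟶ x),
      (⟨StMod.sch (ind (fun x => π.obj x)) x', Q x'⟩ : MObj.{u}) ⟶ ⟨StMod.sch (ind (fun x => π.obj x)) x, Q x⟩ :=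
    fun {x' x} l => (c x').hom ≫ E (InducedCategory.Hom.hom l) ≫ (c x).inv
  let M := modOfArr (𝒴 := ind (fun x => π.obj x)) Q (fun {x' x} l => arr l)
    (fun {x' x} l => by
      obtain ⟨l⟩ := l
      show (c x').hom.g ≫ (E l).g ≫ (c x).inv.g = StMod.bmap 𝒴 l
      rw [castObjIso_hom_g, castObjIso_inv_g, ← Category.assoc, hg, Category.assoc, eqToHom_trans, eqToHom_refl]
      exact Category.comp_id _)
    (fun x => by
      show (c x).hom ≫ E (𝟙 (π.obj x)) ≫ (c x).inv = 𝟙 _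
      rw [hid, Category.id_comp, Iso.hom_inv_id])
    (fun {x'' x' x} l l' => by
      obtain ⟨l⟩ := l
      obtain ⟨l'⟩ := l'
      show (c x'').hom ≫ E (l ≫ l') ≫ (c x).inv =
        ((c x'').hom ≫ E l ≫ (c x').inv) ≫ (c x').hom ≫ E l' ≫ (c x).inv
      rw [hcomp]
      simp)
  have hMt : ∀ {x' x : 𝒳.obj} (h : π.obj x' ⟶ π.obj x), mA M h = (c x').hom ≫ E h ≫ (c x).inv :=
    fun h => totMap_modOfArr _ _ _ _ _ _
  have hMq : StMod.isQCoh _ M := by
    refine ⟨fun x' x l g hgg => ?_, fun x => ?_⟩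
    · subst hgg
      have h : Cart (totMap M l) := by
        rw [totMap_modOfArr]
        exact (cart_of_isIso _).comp ((hcart _).comp (cart_of_isIso _))
      exact h
    · have key : ∀ {X T : Scheme.{u}} (e : X = T) (N : X.Modules), Coh.IsQCoh N → Coh.IsQCoh (StMod.castMod e N) := by
        intro X T e N hN; subst e; exact hN
      exact key _ _ (hF.2 x)
  obtain ⟨G, ⟨e⟩⟩ := exists_comap_iso hf M hMq
  have hei : ∀ x, IsIso (e.hom.app x) := fun x =>
    ⟨e.inv.app x, congrArg (fun t : StMod.Mod.comap (indIncl fun x => π.obj x) G.obj ⟶ _ => StMod.Mod.Hom.app t x) e.hom_inv_id,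
      congrArg (fun t : M ⟶ M => StMod.Mod.Hom.app t x) e.inv_hom_id⟩
  refine ⟨G, fun x => (c x).inv ≫ vert (e.hom.app x), fun x => ?_, fun x => ?_, fun {x' x} h => ?_⟩
  · haveI := hei x
    haveI : IsIso (vert (e.hom.app x)) := inferInstanceAs (IsIso (vertIso (asIso (e.hom.app x))).hom)
    exact IsIso.comp_isIso
  · show (c x).inv.g ≫ 𝟙 _ = _
    rw [castObjIso_inv_g]
    exact Category.comp_id _
  · have h' : vert (e.hom.app x') ≫ mA (StMod.Mod.comap (indIncl fun x => π.obj x) G.obj) h =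
        mA M h ≫ vert (e.hom.app x) := totMap_app e.hom (indHom h)
    rw [totMap_comap_incl, hMt] at h'
    refine Eq.trans ?_ ((congrArg ((c x').inv ≫ ·) h'.symm).trans (Category.assoc _ _ _).symm)
    simp

theorem exists_descend (hf : LocImage (fun x => π.obj x)) (F : StMod.Mod 𝒳) (hF : StMod.isQCoh 𝒳 F)
    (E : ∀ {x' x : 𝒳.obj}, (π.obj x' ⟶ π.obj x) → (tot F x' ⟶ tot F x))
    (hg : ∀ {x' x : 𝒳.obj} (h : π.obj x' ⟶ π.obj x),
      eqToHom (StMod.sch_obj_eq π x') ≫ (E h).g = StMod.bmap 𝒴 h ≫ eqToHom (StMod.sch_obj_eq π x))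
    (hid : ∀ x : 𝒳.obj, E (𝟙 (π.obj x)) = 𝟙 _)
    (hcomp : ∀ {x'' x' x : 𝒳.obj} (h : π.obj x'' ⟶ π.obj x') (h' : π.obj x' ⟶ π.obj x), E (h ≫ h') = E h ≫ E h')
    (hcart : ∀ {x' x : 𝒳.obj} (h : π.obj x' ⟶ π.obj x), Cart (E h))
    (hext : ∀ {x' x : 𝒳.obj} (φ : x' ⟶ x), E (π.map φ) = totMap F φ) :
    ∃ G : StMod.QCoh 𝒴, Nonempty (StMod.Mod.comap π G.obj ≅ F) := by
  obtain ⟨G, χ, hi, hχg, hχ⟩ := exists_descend' π hf F hF E hg hid hcomp hcart hext
  refine ⟨G, exists_iso_of_arr (fun x => χ x ≫ (ci π G.obj x).inv) (fun x => ?_) (fun x => ?_) fun {x' x} φ => ?_⟩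
  · rw [comp_g, hχg, ci_inv_g, eqToHom_trans, eqToHom_refl]
  · haveI := hi x
    exact cart_of_isIso _
  · rw [Category.assoc, ← ci_nat', ← Category.assoc, ← hχ, hext, Category.assoc]

end TwDescLib
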