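import Groth.Agent.TwDescLib.Arr
import Groth.Prelude.Def_TwSh

/-!
# Scalars and the inertial action, as arrows
-/

set_option autoImplicit false
set_option linter.all false
set_option backward.isDefEq.respectTransparency false
set_option backward.isDefEq.respectTransparency.types false

noncomputable section

universe u v w

open CategoryTheory CategoryTheory.Limits AlgebraicGeometry TopologicalSpace Opposite
open TwSh

namespace TwDescLib

/-- Multiplication by a global function, as a vertical arrow. -/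
def sc (A : MObj.{u}) (r : Γ(A.X, ⊤)) : A ⟶ A := vert (scalarEnd A.M r)

@[simp] theorem sc_g (A : MObj.{u}) (r : Γ(A.X, ⊤)) : (sc A r).g = 𝟙 A.X := rfl

theorem sc_one (A : MObj.{u}) : sc A 1 = 𝟙 A := by
  refine (congrArg vert ?_).trans (vert_id A.M)
  refine Scheme.Modules.hom_ext _ _ fun U => AddCommGrpCat.ext fun s => ?_
  refine (scalarEnd_app_apply A.M 1 U s).trans ?_
  rw [show resTop A.X U 1 = 1 from map_one _]
  exact one_smul _ _

theorem sc_mul (A : MObj.{u}) (r r' : Γ(A.X, ⊤)) : sc A (r * r') = sc A r ≫ sc A r' := by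
  refine (congrArg vert ?_).trans (vert_comp _ _)
  refine Scheme.Modules.hom_ext _ _ fun U => AddCommGrpCat.ext fun s => ?_
  refine (scalarEnd_app_apply A.M (r * r') U s).trans ?_
  rw [show resTop A.X U (r * r') = resTop A.X U r * resTop A.X U r' from map_mul _ _ _]
  exact mul_smul _ _ _

theorem cart_sc (A : MObj.{u}) (r : (Γ(A.X, ⊤))ˣ) : Cart (sc A r.val) := by
  haveI : IsIso (sc A r.val) := ⟨sc A r⁻¹.val, by rw [← sc_mul, Units.mul_inv, sc_one],
    by rw [← sc_mul, Units.inv_mul, sc_one]⟩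
  exact cart_of_isIso _

@[reassoc]
theorem sc_nat {A B : MObj.{u}} (a : A ⟶ B) (r : Γ(B.X, ⊤)) : sc A (a.g.appTop r) ≫ a = a ≫ sc B r := by
  refine MHom.ext_app (by simp) fun U s => ?_
  refine (congr($(A.M.presheaf.map_id _) _)).trans ?_
  show (scalarEnd A.M (a.g.appTop r)).app (a.g ⁻¹ᵁ U) (a.m.app U s) = a.m.app U ((scalarEnd B.M r).app U s)
  rw [scalarEnd_app_apply, scalarEnd_app_apply, QCohLib.app_smul]
  show resTop A.X (a.g ⁻¹ᵁ U) (a.g.appTop r) • _ = a.g.app U (resTop B.X U r) • (show Γ(A.M, a.g ⁻¹ᵁ U) from _)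
  congr 1
  exact congr($((a.g.naturality (homOfLE (le_top : U ≤ ⊤)).op).symm) r)

variable {S : Scheme.{u}} {𝒳 : BasedCategory.{v, w} (Over S)}

theorem totMap_autO (F : StMod.Mod 𝒳) (x : 𝒳.obj) (α : Gerb.AutO x) :
    totMap F α.hom.1 = vert (inert F x α) := by
  rw [← totMap_eq F α.hom.1 (bmap_autO x α)]
  refine congrArg (MHom.mk (𝟙 _)) ?_
  rw [inert, Category.assoc, Iso.hom_inv_id_app]
  exact (Category.comp_id _).symm

variable {A : (Over S)ᵒᵖ ⥤ GrpCat.{u}} {χ : A ⟶ GmPsh S} {d : ℤ} {ι : BandHom 𝒳 A}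

theorem totMap_twisted {F : StMod.Mod 𝒳} (hF : IsTwisted F ι χ d) (x : 𝒳.obj) (a : A.obj (op (𝒳.p.obj x))) :
    totMap F (ι.hom x a).hom.1 = sc (tot F x) ((charUnit χ x a ^ d)⁻¹).val := by
  rw [totMap_autO, (isTwisted_iff_inert_eq F ι χ d).1 hF x a]
  rfl

theorem inert_eq_of_totMap {F : StMod.Mod 𝒳} (x : 𝒳.obj) (α : Gerb.AutO x) (r : Γ(StMod.sch 𝒳 x, ⊤))
    (h : totMap F α.hom.1 = sc (tot F x) r) : inert F x α = scalarEnd (F.obj x) r :=
  vert_injective ((totMap_autO F x α).symm.trans h)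

end TwDescLib
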