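import Groth.Agent.QCohDescLib.EvIso
import Groth.Agent.KFlatLib.QCohPull
import Groth.Prelude.Def_StMod6

/-!
# The category of modules on variable schemes, arrows in pushforward form
-/

set_option autoImplicit false
set_option linter.all false
set_option backward.isDefEq.respectTransparency false
set_option backward.isDefEq.respectTransparency.types false

noncomputable section

universe u v w v' w'

open CategoryTheory CategoryTheory.Limits AlgebraicGeometry TopologicalSpace Opposite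
open KFlatLib (pb puSec)
open QCohDescLib (compIso)

namespace TwDescLib

/-- A scheme with a module on it. -/
structure MObj : Type (u + 1) where
  /-- the scheme -/
  X : Scheme.{u}
  /-- the module -/
  M : X.Modules

/-- A morphism of schemes with a comparison map into the direct image. -/
structure MHom (A B : MObj.{u}) : Type u where
  /-- the morphism of schemes -/
  g : A.X ⟶ B.X
  /-- the comparison map -/
  m : B.M ⟶ (Scheme.Modules.pushforward g).obj A.M

theorem MHom.ext' {A B : MObj.{u}} {a b : MHom A B} (e : a.g = b.g)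
    (h : a.m ≫ (Scheme.Modules.pushforwardCongr e).hom.app A.M = b.m) : a = b := by
  obtain ⟨g, m⟩ := a
  obtain ⟨g', m'⟩ := b
  dsimp only at e
  subst e
  rw [StMod.pushforwardCongr_hom_app_self, Category.comp_id] at h
  exact congrArg _ h

theorem MHom.ext_app {A B : MObj.{u}} {a b : MHom A B} (e : a.g = b.g)
    (h : ∀ (U : B.X.Opens) (s : Γ(B.M, U)),
      A.M.presheaf.map (eqToHom (show b.g ⁻¹ᵁ U = a.g ⁻¹ᵁ U by rw [e])).op (a.m.app U s) = b.m.app U s) : a = b :=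
  MHom.ext' e (Scheme.Modules.hom_ext _ _ fun U => AddCommGrpCat.ext fun s => h U s)

/-- The composite of two arrows. -/
def mcomp {A B C : MObj.{u}} (a : MHom A B) (b : MHom B C) : MHom A C :=
  ⟨a.g ≫ b.g, b.m ≫ (Scheme.Modules.pushforward b.g).map a.m ≫
    (Scheme.Modules.pushforwardComp a.g b.g).hom.app A.M⟩

/-- The identity arrow. -/
def mid (A : MObj.{u}) : MHom A A := ⟨𝟙 A.X, (Scheme.Modules.pushforwardId A.X).inv.app A.M⟩

theorem mcomp_app {A B C : MObj.{u}} (a : MHom A B) (b : MHom B C) (U : C.X.Opens) (s : Γ(C.M, U)) :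
    (mcomp a b).m.app U s = a.m.app (b.g ⁻¹ᵁ U) (b.m.app U s) := rfl

instance : Category.{u} MObj.{u} where
  Hom := MHom
  id := mid
  comp := mcomp
  id_comp {A B} a := MHom.ext_app (Category.id_comp _) fun U s => by
    rw [mcomp_app]
    exact congr($(A.M.presheaf.map_id _) (a.m.app U s))
  comp_id {A B} a := MHom.ext_app (Category.comp_id _) fun U s => by
    rw [mcomp_app]
    exact congr($(A.M.presheaf.map_id _) (a.m.app U s))
  assoc {A B C D} a b c := MHom.ext_app (Category.assoc _ _ _) fun U s => by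
    rw [mcomp_app, mcomp_app, mcomp_app, mcomp_app]
    exact congr($(A.M.presheaf.map_id _) (a.m.app _ (b.m.app _ (c.m.app U s))))

theorem hom_ext' {A B : MObj.{u}} {a b : A ⟶ B} (e : a.g = b.g)
    (h : a.m ≫ (Scheme.Modules.pushforwardCongr e).hom.app A.M = b.m) : a = b := MHom.ext' e h

@[simp] theorem comp_g {A B C : MObj.{u}} (a : A ⟶ B) (b : B ⟶ C) : (a ≫ b).g = a.g ≫ b.g := rfl

@[simp] theorem id_g (A : MObj.{u}) : (𝟙 A : A ⟶ A).g = 𝟙 A.X := rfl

theorem comp_app {A B C : MObj.{u}} (a : A ⟶ B) (b : B ⟶ C) (U : C.X.Opens) (s : Γ(C.M, U)) :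
    (a ≫ b).m.app U s = a.m.app (b.g ⁻¹ᵁ U) (b.m.app U s) := rfl

variable {X Y Z : Scheme.{u}}

/-- The vertical arrow of a morphism of modules (contravariant). -/
def vert {M N : X.Modules} (u : M ⟶ N) : (⟨X, N⟩ : MObj) ⟶ ⟨X, M⟩ :=
  ⟨𝟙 X, u ≫ (Scheme.Modules.pushforwardId X).inv.app N⟩

@[simp] theorem vert_g {M N : X.Modules} (u : M ⟶ N) : (vert u).g = 𝟙 X := rfl

theorem vert_id (M : X.Modules) : vert (𝟙 M) = 𝟙 (⟨X, M⟩ : MObj) :=
  MHom.ext_app rfl fun U s => congr($(M.presheaf.map_id _) s)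

theorem vert_comp {M N P : X.Modules} (u : M ⟶ N) (v : N ⟶ P) : vert (u ≫ v) = vert v ≫ vert u :=
  MHom.ext_app (Category.id_comp _).symm fun U s => congr($(P.presheaf.map_id _) (v.app U (u.app U s)))

/-- The vertical arrow of an isomorphism. -/
def vertIso {M N : X.Modules} (e : M ≅ N) : (⟨X, N⟩ : MObj) ≅ ⟨X, M⟩ where
  hom := vert e.hom
  inv := vert e.inv
  hom_inv_id := by rw [← vert_comp, e.inv_hom_id, vert_id]
  inv_hom_id := by rw [← vert_comp, e.hom_inv_id, vert_id]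

/-- The canonical arrow out of a pullback. -/
def can (g : X ⟶ Y) (M : Y.Modules) : (⟨X, pb g M⟩ : MObj) ⟶ ⟨Y, M⟩ :=
  ⟨g, (Scheme.Modules.pullbackPushforwardAdjunction g).unit.app M⟩

@[simp] theorem can_g (g : X ⟶ Y) (M : Y.Modules) : (can g M).g = g := rfl

/-- The adjoint of an arrow. -/
def adj {A B : MObj.{u}} (a : A ⟶ B) : pb a.g B.M ⟶ A.M :=
  ((Scheme.Modules.pullbackPushforwardAdjunction a.g).homEquiv _ _).symm a.m

theorem vert_can {N : X.Modules} (g : X ⟶ Y) (M : Y.Modules) (u : pb g M ⟶ N) :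
    vert u ≫ can g M = ⟨g, (Scheme.Modules.pullbackPushforwardAdjunction g).homEquiv _ _ u⟩ :=
  MHom.ext_app (Category.id_comp _) fun U s => congr($(N.presheaf.map_id _) (u.app _ (puSec g s)))

theorem vert_adj_can {A B : MObj.{u}} (a : A ⟶ B) : vert (adj a) ≫ can a.g B.M = a := by
  rw [vert_can]
  simp only [adj, Equiv.apply_symm_apply]
  rfl

theorem adj_vert_can {N : X.Modules} (g : X ⟶ Y) (M : Y.Modules) (u : pb g M ⟶ N) (a : (⟨X, N⟩ : MObj) ⟶ ⟨Y, M⟩)
    (h : vert u ≫ can g M = a) : HEq (adj a) u := by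
  rw [vert_can] at h
  subst h
  exact heq_of_eq (Equiv.symm_apply_apply _ _)

theorem vert_can_inj {N : X.Modules} (g : X ⟶ Y) (M : Y.Modules) {u v : pb g M ⟶ N}
    (h : vert u ≫ can g M = vert v ≫ can g M) : u = v := by
  rw [vert_can, vert_can] at h
  exact ((Scheme.Modules.pullbackPushforwardAdjunction g).homEquiv _ _).injective
    (eq_of_heq (MHom.mk.injEq .. ▸ h).2)

@[reassoc]
theorem can_natural (g : X ⟶ Y) {M N : Y.Modules} (u : M ⟶ N) :
    vert ((Scheme.Modules.pullback g).map u) ≫ can g M = can g N ≫ vert u :=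
  MHom.ext_app (by rw [comp_g, comp_g]; simp) fun U s =>
    (congr($((pb g N).presheaf.map_id _) _)).trans (KFlatLib.puSec_natural g u s)

theorem can_comp (g : X ⟶ Y) {h : Y ⟶ Z} {h' : X ⟶ Z} (e : g ≫ h = h') (M : Z.Modules) :
    vert (compIso M g e).hom ≫ can g (pb h M) ≫ can h M = can h' M := by
  refine MHom.ext_app (by simp [e]) fun U s => ?_
  subst e
  exact (congr($((pb (g ≫ h) M).presheaf.map_id _) _)).trans
    ((QCohDescLib.compIso_puSec M g rfl s le_rfl).trans (congr($((pb (g ≫ h) M).presheaf.map_id _) _)))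

theorem can_comp' (g : X ⟶ Y) {h : Y ⟶ Z} {h' : X ⟶ Z} (e : g ≫ h = h') (M : Z.Modules) :
    can g (pb h M) ≫ can h M = vert (compIso M g e).inv ≫ can h' M := by
  rw [← can_comp g e M, ← Category.assoc, ← vert_comp, Iso.hom_inv_id, vert_id, Category.id_comp]

theorem vert_inv_adj {A B : MObj.{u}} (a : A ⟶ B) [IsIso (adj a)] :
    vert (inv (adj a)) ≫ a = can a.g B.M :=
  (congrArg (vert (inv (adj a)) ≫ ·) (vert_adj_can a).symm).trans (by
    rw [← Category.assoc, ← vert_comp, IsIso.hom_inv_id, vert_id, Category.id_comp])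

/-- An arrow is cartesian when its adjoint is invertible. -/
def Cart {A B : MObj.{u}} (a : A ⟶ B) : Prop := IsIso (adj a)

theorem cart_vert_can {N : X.Modules} (g : X ⟶ Y) (M : Y.Modules) (u : pb g M ⟶ N) [IsIso u] :
    Cart (vert u ≫ can g M) := by
  rw [vert_can]
  show IsIso (adj _)
  simp only [adj, Equiv.symm_apply_apply]
  infer_instance

theorem cart_can (g : X ⟶ Y) (M : Y.Modules) : Cart (can g M) := by
  have := cart_vert_can g M (𝟙 _)
  rwa [vert_id, Category.id_comp] at this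

theorem Cart.comp {A B C : MObj.{u}} {a : A ⟶ B} {b : B ⟶ C} (ha : Cart a) (hb : Cart b) : Cart (a ≫ b) := by
  haveI : IsIso (adj a) := ha
  haveI : IsIso (adj b) := hb
  have e : a ≫ b = vert ((compIso C.M a.g rfl).inv ≫ (Scheme.Modules.pullback a.g).map (adj b) ≫ adj a) ≫
      can (a.g ≫ b.g) C.M := by
    rw [vert_comp, vert_comp, Category.assoc, Category.assoc, ← can_comp' a.g rfl C.M,
      ← Category.assoc (vert ((Scheme.Modules.pullback a.g).map (adj b))), can_natural, Category.assoc,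
      vert_adj_can, ← Category.assoc, vert_adj_can]
  rw [e]
  exact cart_vert_can _ _ _

theorem Cart.of_comp {A B C : MObj.{u}} {a : A ⟶ B} {b : B ⟶ C} (hab : Cart (a ≫ b)) (hb : Cart b) : Cart a := by
  haveI : IsIso (adj b) := hb
  haveI : IsIso (adj (a ≫ b)) := hab
  have e : a ≫ b = vert ((compIso C.M a.g rfl).inv ≫ (Scheme.Modules.pullback a.g).map (adj b) ≫ adj a) ≫
      can (a.g ≫ b.g) C.M := by
    rw [vert_comp, vert_comp, Category.assoc, Category.assoc, ← can_comp' a.g rfl C.M,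
      ← Category.assoc (vert ((Scheme.Modules.pullback a.g).map (adj b))), can_natural, Category.assoc,
      vert_adj_can, ← Category.assoc, vert_adj_can]
  have h : adj (a ≫ b) = (compIso C.M a.g rfl).inv ≫ (Scheme.Modules.pullback a.g).map (adj b) ≫ adj a :=
    eq_of_heq (adj_vert_can _ _ _ _ e.symm)
  haveI : IsIso ((compIso C.M a.g rfl).inv ≫ (Scheme.Modules.pullback a.g).map (adj b) ≫ adj a) := h ▸ hab
  haveI : IsIso ((Scheme.Modules.pullback a.g).map (adj b) ≫ adj a) :=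
    IsIso.of_isIso_comp_left (compIso C.M a.g rfl).inv _
  exact IsIso.of_isIso_comp_left ((Scheme.Modules.pullback a.g).map (adj b)) _

/-- A cartesian arrow lifts uniquely. -/
theorem Cart.existsUnique {A B C : MObj.{u}} {a : A ⟶ B} (ha : Cart a) (b : C ⟶ B) (h : C.X ⟶ A.X)
    (e : h ≫ a.g = b.g) : ∃! c : C ⟶ A, c.g = h ∧ c ≫ a = b := by
  haveI : IsIso (adj a) := ha
  obtain ⟨g₀, m₀⟩ := b
  dsimp only at e
  subst e
  let T : (A.M ⟶ (Scheme.Modules.pushforward h).obj C.M) ≃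
      (B.M ⟶ (Scheme.Modules.pushforward (h ≫ a.g)).obj C.M) :=
    ((asIso (adj a)).homFromEquiv.symm).trans
      (((Scheme.Modules.pullbackPushforwardAdjunction a.g).homEquiv _ _).trans
        ((Scheme.Modules.pushforwardComp h a.g).app C.M).homToEquiv)
  have hT : ∀ n, ((⟨h, n⟩ : C ⟶ A) ≫ a) = ⟨h ≫ a.g, T n⟩ := fun n => by
    refine congrArg (MHom.mk (h ≫ a.g)) ?_
    show a.m ≫ _ = _
    simp [T, adj, Adjunction.homEquiv_naturality_right]
  refine ⟨⟨h, T.symm m₀⟩, ⟨rfl, ?_⟩, ?_⟩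
  · rw [hT, Equiv.apply_symm_apply]
  · rintro ⟨g', n⟩ ⟨rfl, hn⟩
    refine congrArg (MHom.mk g') (T.eq_symm_apply.mpr ?_)
    rw [hT] at hn
    exact eq_of_heq (MHom.mk.injEq .. ▸ hn).2

theorem Cart.cancel {A B C : MObj.{u}} {a : A ⟶ B} (ha : Cart a) {c c' : C ⟶ A} (hg : c.g = c'.g)
    (h : c ≫ a = c' ≫ a) : c = c' :=
  (ha.existsUnique (c' ≫ a) c'.g rfl).unique ⟨hg, h⟩ ⟨rfl, rfl⟩

/-- The lift along a cartesian arrow. -/
def Cart.lift {A B C : MObj.{u}} {a : A ⟶ B} (ha : Cart a) (b : C ⟶ B) (h : C.X ⟶ A.X)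
    (e : h ≫ a.g = b.g) : C ⟶ A :=
  (ha.existsUnique b h e).choose

theorem Cart.lift_g {A B C : MObj.{u}} {a : A ⟶ B} (ha : Cart a) (b : C ⟶ B) (h : C.X ⟶ A.X)
    (e : h ≫ a.g = b.g) : (ha.lift b h e).g = h :=
  (ha.existsUnique b h e).choose_spec.1.1

@[reassoc]
theorem Cart.fac {A B C : MObj.{u}} {a : A ⟶ B} (ha : Cart a) (b : C ⟶ B) (h : C.X ⟶ A.X)
    (e : h ≫ a.g = b.g) : ha.lift b h e ≫ a = b :=
  (ha.existsUnique b h e).choose_spec.1.2

theorem vert_injective {M N : X.Modules} {u v : M ⟶ N} (h : vert u = vert v) : u = v :=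
  (cancel_mono ((Scheme.Modules.pushforwardId X).inv.app N)).1 (eq_of_heq (MHom.mk.injEq .. ▸ h).2)

theorem exists_vert {M N : X.Modules} (a : (⟨X, N⟩ : MObj) ⟶ ⟨X, M⟩) (h : a.g = 𝟙 X) :
    ∃ u : M ⟶ N, vert u = a := by
  obtain ⟨g, m⟩ := a
  dsimp only at h
  subst h
  refine ⟨m ≫ (Scheme.Modules.pushforwardId X).hom.app N, ?_⟩
  refine congrArg (fun t => (⟨𝟙 X, t⟩ : MHom (⟨X, N⟩ : MObj) ⟨X, M⟩)) ?_
  rw [Category.assoc, Iso.hom_inv_id_app]
  exact Category.comp_id _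

theorem cart_of_isIso {A B : MObj.{u}} (a : A ⟶ B) [IsIso a] : Cart a := by
  let w : (⟨A.X, pb a.g B.M⟩ : MObj) ⟶ A := can a.g B.M ≫ inv a
  have hw : w.g = 𝟙 A.X := congrArg MHom.g (IsIso.hom_inv_id a)
  obtain ⟨v, hv⟩ := exists_vert w hw
  refine ⟨v, vert_injective ?_, vert_injective ?_⟩
  · rw [vert_comp, hv, vert_id]
    refine (cart_can a.g B.M).cancel ?_ ?_
    · rw [comp_g, hw]; simp
    · rw [Category.assoc, vert_adj_can, Category.id_comp]
      simp [w]
  · rw [vert_comp, hv, vert_id]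
    show vert (adj a) ≫ can a.g B.M ≫ inv a = 𝟙 A
    rw [← Category.assoc, vert_adj_can, IsIso.hom_inv_id]

theorem cart_vert {M N : X.Modules} (u : M ⟶ N) [IsIso u] : Cart (vert u) := by
  haveI : IsIso (vert u) := inferInstanceAs (IsIso (vertIso (asIso u)).hom)
  exact cart_of_isIso _

section Tot

variable {S : Scheme.{u}} {𝒳 : BasedCategory.{v, w} (Over S)}

/-- The value of a module on an object. -/
abbrev tot (F : StMod.Mod 𝒳) (x : 𝒳.obj) : MObj.{u} := ⟨StMod.sch 𝒳 x, F.obj x⟩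

/-- The comparison map as an arrow. -/
def totMap (F : StMod.Mod 𝒳) {x' x : 𝒳.obj} (φ : x' ⟶ x) : tot F x' ⟶ tot F x :=
  ⟨StMod.bmap 𝒳 φ, F.map φ rfl⟩

@[simp] theorem totMap_g (F : StMod.Mod 𝒳) {x' x : 𝒳.obj} (φ : x' ⟶ x) : (totMap F φ).g = StMod.bmap 𝒳 φ := rfl

theorem totMap_eq (F : StMod.Mod 𝒳) {x' x : 𝒳.obj} (φ : x' ⟶ x) {g : StMod.sch 𝒳 x' ⟶ StMod.sch 𝒳 x}
    (hg : StMod.bmap 𝒳 φ = g) : (⟨g, F.map φ hg⟩ : tot F x' ⟶ tot F x) = totMap F φ := by
  subst hg; rfl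

theorem totMap_id (F : StMod.Mod 𝒳) (x : 𝒳.obj) : totMap F (𝟙 x) = 𝟙 (tot F x) := by
  rw [← totMap_eq F (𝟙 x) (StMod.bmap_id x)]
  refine congrArg (MHom.mk (𝟙 _)) ((Iso.comp_hom_eq_id ((Scheme.Modules.pushforwardId _).app (F.obj x))).1 ?_)
  exact F.map_id x

theorem totMap_comp (F : StMod.Mod 𝒳) {x'' x' x : 𝒳.obj} (ψ : x'' ⟶ x') (φ : x' ⟶ x) :
    totMap F (ψ ≫ φ) = totMap F ψ ≫ totMap F φ := by
  rw [← totMap_eq F (ψ ≫ φ) (StMod.bmap_comp ψ φ)]
  exact congrArg (MHom.mk _) (F.map_comp ψ φ rfl rfl)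

theorem cart_totMap {F : StMod.Mod 𝒳} (hF : F.IsCartesian) {x' x : 𝒳.obj} (φ : x' ⟶ x) : Cart (totMap F φ) :=
  hF φ rfl

theorem totMap_app {F G : StMod.Mod 𝒳} (u : F ⟶ G) {x' x : 𝒳.obj} (φ : x' ⟶ x) :
    vert (u.app x') ≫ totMap F φ = totMap G φ ≫ vert (u.app x) := by
  refine MHom.ext_app (by simp) fun U s => ?_
  refine (congr($((G.obj x').presheaf.map_id _) _)).trans ?_
  exact congr($(congrArg (fun t => Scheme.Modules.Hom.app t U) (u.comm φ rfl)) s)

end Tot

end TwDescLib
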