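import Groth.Agent.S1177
import Groth.Agent.S2515
import Groth.Agent.S5134
import Groth.Agent.RGFlatLib.ModSheaf
import Groth.Agent.RichLib.IsFPAffine
import Groth.Agent.RichLib.ModFlatGlobal
import Groth.Agent.PerfFibreLib.Single
import Groth.Agent.MiscFlat6.TildeFin
import Groth.Agent.QCohDescLib.Main
import Groth.Agent.ConsLib.ModLoci
import Groth.Agent.DescLib.Fpqc
import Groth.Agent.S9805
import Groth.Prelude.Def_StMod3
import Groth.Prelude.Def_StMod6

/-!
# Finiteness properties descend along fpqc families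
-/

set_option autoImplicit false
set_option linter.all false
set_option backward.isDefEq.respectTransparency false
set_option backward.isDefEq.respectTransparency.types false
set_option maxHeartbeats 800000

noncomputable section

universe u

open CategoryTheory CategoryTheory.Limits AlgebraicGeometry TopologicalSpace Opposite
open KFlatLib (pb)
open QCohDescLib (compIso)

namespace TwDescLib

/-- A property of modules with which descent along fpqc families works. -/
structure DescProp (P : ∀ {X : Scheme.{u}}, X.Modules → Prop) : Prop where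
  of_iso : ∀ {X : Scheme.{u}} {M N : X.Modules}, (M ≅ N) → P M → P N
  pull : ∀ {X Y : Scheme.{u}} (g : X ⟶ Y) (M : Y.Modules), Coh.IsQCoh M → P M → P (pb g M)
  openCover : ∀ {X : Scheme.{u}} (M : X.Modules), Coh.IsQCoh M →
    (∀ x : X, ∃ (Y : Scheme.{u}) (g : Y ⟶ X) (_ : IsOpenImmersion g), x ∈ Set.range g ∧ P (pb g M)) → P M
  ff : ∀ {X Y : Scheme.{u}} (g : X ⟶ Y) [Flat g] [Surjective g] [QuasiCompact g] (M : Y.Modules),
    Coh.IsQCoh M → P (pb g M) → P M

theorem DescProp.of_family {P : ∀ {X : Scheme.{u}}, X.Modules → Prop} (hP : DescProp P) {ι : Type u}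
    {T : Scheme.{u}} {X : ι → Scheme.{u}} {f : ∀ i, X i ⟶ T}
    (hf : Presieve.ofArrows X f ∈ Scheme.fpqcPrecoverage T) (M : T.Modules) (hM : Coh.IsQCoh M)
    (h : ∀ i, P (pb (f i) M)) : P M := by
  refine hP.openCover M hM fun x => ?_
  obtain ⟨U, hU, hxU, -⟩ := exists_isAffineOpen_mem_and_subset (U := (⊤ : T.Opens)) (x := x) trivial
  refine ⟨U.toScheme, U.ι, inferInstance, by rw [Scheme.Opens.range_ι]; exact hxU, ?_⟩
  obtain ⟨m, a, V, o, b, hV, ho, hob, hW, hfl, hsu, hqc⟩ := DescLib.exists_affine_refinement hf hU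
  have hMU : Coh.IsQCoh (pb U.ι M) := KFlatLib.isQCoh_pullback U.ι M
  refine hP.ff (Limits.Sigma.desc b) (pb U.ι M) hMU ?_
  refine hP.openCover _ (KFlatLib.isQCoh_pullback _ _) fun w => ?_
  obtain ⟨k, v, hv⟩ := (sigmaOpenCover V).exists_eq w
  refine ⟨V k, Limits.Sigma.ι V k, inferInstance, ⟨v, hv⟩, ?_⟩
  refine hP.of_iso (compIso M (o k) (h := f (a k)) (hob k) ≪≫ (compIso M (b k) (h := U.ι) rfl).symm ≪≫
    (compIso (pb U.ι M) (Limits.Sigma.ι V k) (h := Limits.Sigma.desc b) (Limits.Sigma.ι_desc b k)).symm) ?_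
  exact hP.pull (o k) _ (KFlatLib.isQCoh_pullback _ _) (h (a k))

theorem pb_opensRange_iso {X Y : Scheme.{u}} (g : Y ⟶ X) [IsOpenImmersion g] (M : X.Modules) :
    Nonempty (pb g.isoOpensRange.inv (pb g M) ≅ pb g.opensRange.ι M) :=
  ⟨compIso M g.isoOpensRange.inv (Scheme.Hom.isoOpensRange_inv_comp g)⟩

theorem descProp_isFT : DescProp (fun {X} M => CohB1.IsFT M) where
  of_iso e h := QCohLib.isFT_of_iso e h
  pull g M hM h := by haveI := hM; exact ConsLib.isFT_pullback g M h
  openCover {X} M hM h := by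
    haveI := hM
    choose Y g hg hx hft using h
    refine QCohLib.isFT_of_cover M (fun x => (g x).opensRange)
      (eq_top_iff.2 fun x _ => Opens.mem_iSup.2 ⟨x, hx x⟩) fun x => ?_
    obtain ⟨e⟩ := pb_opensRange_iso (g x) M
    haveI : Coh.IsQCoh (pb (g x) M) := KFlatLib.isQCoh_pullback _ _
    exact QCohLib.isFT_of_iso (e ≪≫ ((Scheme.Modules.restrictFunctorIsoPullback (g x).opensRange.ι).app M).symm)
      (ConsLib.isFT_pullback _ _ (hft x))
  ff g _ _ _ M hM h := (Groth.Agent.S2515.result g M hM ⟨@KFlatLib.isQCoh_pullback _ _ g M hM, h⟩).2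

theorem descProp_isFP : DescProp (fun {X} M => CohB1.IsFP M) where
  of_iso e h := Groth.Agent.PerfLib.isFP_of_iso' e h
  pull g M _ h := RichLib.ModFlat.isFP_pullback g h
  openCover {X} M hM h := by
    haveI := hM
    refine RichLib.IsFPAffine.isFP_of_finitePresentation M fun x => ?_
    obtain ⟨Y, g, hg, hx, hP⟩ := h x
    obtain ⟨e⟩ := pb_opensRange_iso g M
    obtain ⟨V, hV, hxV, hVU⟩ := exists_isAffineOpen_mem_and_subset (U := g.opensRange) (x := x) hx
    exact ⟨V, hV, hxV, RGFlatLib.finitePresentation_affine_of_pullback M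
      (Groth.Agent.PerfLib.isFP_of_iso' e (RichLib.ModFlat.isFP_pullback _ hP)) hV hVU⟩
  ff g _ _ _ M hM h := Groth.Agent.S5134.result g M hM h

theorem descProp_isFinLocFree : DescProp (fun {X} M => FlatMod.IsFinLocFree M) where
  of_iso e h := Groth.Agent.PerfLib.isFinLocFree_of_iso e h
  pull g M _ h := KFlatLib.isFinLocFree_pull g h
  openCover {X} M _ h := Groth.Agent.PerfFibreLib.isFinLocFree_of_openCover fun x => by
    obtain ⟨Y, g, hg, hx, hP⟩ := h x
    exact ⟨Y, g, hg, hx, Groth.Agent.PerfLib.isFinLocFree_of_iso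
      ((Scheme.Modules.restrictFunctorIsoPullback g).app M).symm hP⟩
  ff g _ _ _ M hM h := by haveI : M.IsQuasicoherent := hM; exact Groth.Agent.S1177.result g M h

theorem isFinLocFree_free_of_isFT {R : CommRingCat.{u}} (I : Type u)
    (h : CohB1.IsFT (SheafOfModules.free I : (Spec R).Modules)) :
    FlatMod.IsFinLocFree (SheafOfModules.free I : (Spec R).Modules) := by
  have e : (tilde (ModuleCat.of R (I →₀ R)) : (Spec R).Modules) ≅
      (SheafOfModules.free I : (Spec R).Modules) := tildeFinsupp I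
  refine Groth.Agent.PerfLib.isFinLocFree_of_iso e ((MiscFlat6.isFinLocFree_iff _).2 ⟨?_, ?_⟩)
  · exact (MiscFlat6.isFT_iff _).1 (QCohLib.isFT_of_iso e.symm h)
  · show Module.Projective R (I →₀ R)
    infer_instance

theorem isFinLocFree_of_isLocallyFree {X : Scheme.{u}} (M : X.Modules)
    (h : SheafOfModules.IsLocallyFree (R := X.ringCatSheaf) M) (hFT : CohB1.IsFT M) :
    FlatMod.IsFinLocFree M := by
  obtain ⟨q, hq⟩ := h.exists_isLocallyFreeData
  haveI hM : Coh.IsQCoh M := inferInstanceAs (SheafOfModules.IsQuasicoherent (R := X.ringCatSheaf) M)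
  refine descProp_isFinLocFree.openCover M hM fun x => ?_
  obtain ⟨i, hxU⟩ : ∃ i, x ∈ q.X i :=
    Opens.mem_iSup.1 (((Opens.coversTop_iff (X : Type u) q.X).1 q.coversTop).ge (Opens.mem_top x))
  let U : X.Opens := q.X i
  let G := q.generators i
  haveI : IsIso G.π := SheafOfModules.LocalGeneratorsData.IsLocallyFreeData.isIso (q := q) i
  haveI : IsIso (QCohLib.genRestrict M U G).π := by
    unfold QCohLib.genRestrict
    rw [SheafOfModules.GeneratingSections.ofEpi_π]
    infer_instance
  let eU : (SheafOfModules.free (QCohLib.genRestrict M U G).I : U.toScheme.Modules) ≅ M.restrict U.ι :=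
    asIso (QCohLib.genRestrict M U G).π
  obtain ⟨V, hV, hxV, hVU⟩ := exists_isAffineOpen_mem_and_subset (U := U) (x := x) hxU
  let g := X.homOfLE hVU
  let k : Spec Γ(X, V) ⟶ U.toScheme := hV.isoSpec.inv ≫ g
  haveI : IsOpenImmersion k := inferInstance
  refine ⟨_, k ≫ U.ι, inferInstance, ?_, ?_⟩
  · refine ⟨hV.isoSpec.hom ⟨x, hxV⟩, ?_⟩
    rw [← Scheme.Hom.comp_apply, show hV.isoSpec.hom ≫ k ≫ U.ι = V.ι by simp [k, g]]
    rfl
  let e₁ : pb (k ≫ U.ι) M ≅ (SheafOfModules.free (QCohLib.genRestrict M U G).I : (Spec Γ(X, V)).Modules) :=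
    (compIso M k (h := U.ι) rfl).symm ≪≫
      (Scheme.Modules.pullback k).mapIso (((Scheme.Modules.restrictFunctorIsoPullback U.ι).app M).symm ≪≫ eU.symm) ≪≫
      (haveI := StMod.opensMap_final k; SheafOfModules.pullbackObjFreeIso k.toRingCatSheafHom _)
  exact descProp_isFinLocFree.of_iso e₁.symm
    (isFinLocFree_free_of_isFT _ (QCohLib.isFT_of_iso e₁ (ConsLib.isFT_pullback _ M hFT)))

theorem isIso_genOver {X : Scheme.{u}} (M : X.Modules) (U : X.Opens)
    (G : (M.restrict U.ι).GeneratingSections) (hG : IsIso G.π) :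
    IsIso (QCohLib.genOver M U G).π := by
  unfold QCohLib.genOver
  rw [SheafOfModules.GeneratingSections.ofEpi_π]
  haveI : IsIso (G.map (Scheme.Modules.overEquiv U).inverse (QCohLib.overUnitIso U)).π := by
    rw [SheafOfModules.GeneratingSections.map_π_eq]
    infer_instance
  exact IsIso.comp_isIso

theorem isLocallyFree_of_isFinLocFree {X : Scheme.{u}} (M : X.Modules) (h : FlatMod.IsFinLocFree M) :
    SheafOfModules.IsLocallyFree (R := X.ringCatSheaf) M := by
  choose U n hxU e using h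
  have key : ∀ x, ∃ G : (M.restrict (U x).ι).GeneratingSections, IsIso G.π := fun x => by
    obtain ⟨I, hI, ⟨e'⟩⟩ := Groth.Agent.PerfLib.exists_free_iso (M := M.restrict (U x).ι) ⟨n x, e x⟩
    refine ⟨(SheafOfModules.free.generatingSections I).ofEpi e'.inv, ?_⟩
    rw [SheafOfModules.GeneratingSections.ofEpi_π]
    infer_instance
  choose G hG using key
  let q : SheafOfModules.LocalGeneratorsData.{u} (R := X.ringCatSheaf) M :=
    { I := X
      X := U
      coversTop := (Opens.coversTop_iff (X : Type u) U).mpr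
        (eq_top_iff.mpr fun p _ => Opens.mem_iSup.mpr ⟨p, hxU p⟩)
      generators := fun x => QCohLib.genOver M (U x) (G x) }
  have hq : ∀ x : X, IsIso (QCohLib.genOver M (U x) (G x)).π :=
    fun x => isIso_genOver M (U x) (G x) (hG x)
  have h' : SheafOfModules.LocalGeneratorsData.IsLocallyFreeData.{u, u, u, u} (R := X.ringCatSheaf) q := by
    constructor
    exact hq
  exact @SheafOfModules.LocalGeneratorsData.isLocallyFree.{u, u, u, u} _ _ _ X.ringCatSheaf _ _ M q h'

theorem isLocFree_and_isFT_iff {X : Scheme.{u}} (M : X.Modules) :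
    (SheafOfModules.IsLocallyFree (R := X.ringCatSheaf) M ∧ CohB1.IsFT M) ↔ FlatMod.IsFinLocFree M := by
  refine ⟨fun h => isFinLocFree_of_isLocallyFree M h.1 h.2, fun h => ⟨isLocallyFree_of_isFinLocFree M h, ?_⟩⟩
  haveI hM : Coh.IsQCoh M := FinLFAnn.isQCoh_of_isFinLocFree h
  exact (ConsLib.isCoh_of_isFP ((Groth.Agent.S9805.result X M hM).2 h).2).2

theorem prop_castMod {P : ∀ {X : Scheme.{u}}, X.Modules → Prop} {X T : Scheme.{u}} (e : X = T) (M : X.Modules) :
    P (StMod.castMod e M) ↔ P M := by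
  subst e; rfl

end TwDescLib
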