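import Groth.Agent.TwDescLib.Cast
import Groth.Agent.TwDescLib.Scalar

/-!
# Gerbes: morphisms between images lift locally
-/

set_option autoImplicit false
set_option linter.all false
set_option backward.isDefEq.respectTransparency false
set_option backward.isDefEq.respectTransparency.types false
set_option maxHeartbeats 800000

noncomputable section

universe u v w v' w' t

open CategoryTheory CategoryTheory.Limits AlgebraicGeometry TopologicalSpace Opposite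
open KFlatLib (pb)
open TwSh

namespace TwDescLib

/-- Gluing of a family of arrows containing a small covering one. -/
theorem exists_glue_all {P₀ : Type t} {K : Type u} {R P : MObj.{u}} [Coh.IsQCoh R.M] (g : R.X ⟶ P.X)
    {A : P₀ → MObj.{u}} (u : ∀ i, A i ⟶ R) (hu : ∀ i, Cart (u i)) (v : ∀ i, A i ⟶ P)
    (hv : ∀ i, (v i).g = (u i).g ≫ g)
    (H : ∀ (C : MObj.{u}) (i j : P₀) (s : C ⟶ A i) (t : C ⟶ A j), Cart s → Cart t →
      s ≫ u i = t ≫ u j → s ≫ v i = t ≫ v j)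
    (sub : K → P₀) (hsub : IsFppf (fun k => (u (sub k)).g)) :
    ∃ c : R ⟶ P, c.g = g ∧ ∀ i, u i ≫ c = v i := by
  obtain ⟨c, hc, hcv⟩ := exists_glue g (fun k => u (sub k)) (fun k => hu _) hsub.mem (fun k => v (sub k))
    (fun k => hv _) fun C i j s t _ hs ht h => H C (sub i) (sub j) s t hs ht h
  refine ⟨c, hc, fun i => ?_⟩
  let Z : K → MObj.{u} := fun k =>
    ⟨pullback (u i).g (u (sub k)).g, pb (pullback.fst (u i).g (u (sub k)).g) (A i).M⟩
  let sk : ∀ k, Z k ⟶ A i := fun k => can (pullback.fst (u i).g (u (sub k)).g) _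
  have hp := hsub.pullback (u i).g
  refine glue_unique (u := sk) ⟨fun k => cart_can _ _, hp.flat, hp.surj⟩ (by rw [comp_g, hv, hc]) fun k => ?_
  let tk := (hu (sub k)).lift (sk k ≫ u i) (pullback.snd (u i).g (u (sub k)).g)
    (by rw [comp_g]; exact pullback.condition.symm)
  have ft : tk ≫ u (sub k) = sk k ≫ u i := Cart.fac _ _ _ _
  have htk : Cart tk := Cart.of_comp (by rw [ft]; exact (cart_can _ _).comp (hu i)) (hu _)
  show sk k ≫ u i ≫ c = sk k ≫ v i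
  rw [H _ i (sub k) (sk k) tk (cart_can _ _) htk ft.symm, ← Category.assoc, ← ft, Category.assoc, hcv]

variable {S : Scheme.{u}} {𝒳 : BasedCategory.{v', w'} (Over S)} {𝒴 : BasedCategory.{v, w} (Over S)}
  (π : 𝒳 ⥤ᵇ 𝒴)

/-- The morphism of schemes of the sources under a morphism between images. -/
def hbase {x' x : 𝒳.obj} (h : π.obj x' ⟶ π.obj x) : StMod.sch 𝒳 x' ⟶ StMod.sch 𝒳 x :=
  eqToHom (StMod.sch_obj_eq π x').symm ≫ StMod.bmap 𝒴 h ≫ eqToHom (StMod.sch_obj_eq π x)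

theorem eqToHom_hbase {x' x : 𝒳.obj} (h : π.obj x' ⟶ π.obj x) :
    eqToHom (StMod.sch_obj_eq π x') ≫ hbase π h = StMod.bmap 𝒴 h ≫ eqToHom (StMod.sch_obj_eq π x) := by
  simp [hbase]

theorem hbase_map {x' x : 𝒳.obj} (φ : x' ⟶ x) : hbase π (π.map φ) = StMod.bmap 𝒳 φ := by
  have h := StMod.bmap_map_comm π φ rfl
  rw [← cancel_epi (eqToHom (StMod.sch_obj_eq π x')), eqToHom_hbase, h]

theorem hbase_comp {x'' x' x : 𝒳.obj} (h : π.obj x'' ⟶ π.obj x') (h' : π.obj x' ⟶ π.obj x) :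
    hbase π (h ≫ h') = hbase π h ≫ hbase π h' := by
  simp [hbase, StMod.bmap_comp]

theorem hbase_id (x : 𝒳.obj) : hbase π (𝟙 (π.obj x)) = 𝟙 _ := by
  simp [hbase]

/-- A lift of a morphism between images. -/
structure HLift {x' x : 𝒳.obj} (h : π.obj x' ⟶ π.obj x) where
  /-- the common source -/
  o : 𝒳.obj
  /-- towards the source -/
  φ : o ⟶ x'
  /-- towards the target -/
  ψ : o ⟶ x
  fac : π.map φ ≫ h = π.map ψ

theorem HLift.base {x' x : 𝒳.obj} {h : π.obj x' ⟶ π.obj x} (l : HLift π h) :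
    StMod.bmap 𝒳 l.ψ = StMod.bmap 𝒳 l.φ ≫ hbase π h := by
  rw [← hbase_map π, ← hbase_map π l.φ, ← hbase_comp, l.fac]

theorem exists_lifts [FibCat.IsFibGrpd 𝒳.p] [FibCat.IsFibGrpd 𝒴.p]
    (hπ : Gerb.LocSurjHom (QuotSh.J Scheme.fppfPrecoverage S) π) {x' x : 𝒳.obj} (h : π.obj x' ⟶ π.obj x) :
    ∃ (K : Type u) (l : K → HLift π h), IsFppf (fun k => StMod.bmap 𝒳 (l k).φ) := by
  let k : 𝒳.p.obj x' ⟶ 𝒳.p.obj x := eqToHom (π.w_obj x').symm ≫ 𝒴.p.map h ≫ eqToHom (π.w_obj x)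
  haveI hkh : 𝒴.p.IsHomLift k h :=
    IsHomLift.of_fac 𝒴.p k h (π.w_obj x') (π.w_obj x) (by simp [k])
  obtain ⟨x₁, c, hc⟩ := FibCat.IsFibGrpd.exists_lift (p := 𝒳.p) k
  haveI := hc
  haveI hπc : 𝒴.p.IsHomLift k (π.map c) := π.preserves_isHomLift k c
  obtain ⟨i, hi, hic⟩ := GerbeLib.exists_vert 𝒴.p k h (π.map c) hkh hπc
  obtain ⟨R, hR, hx⟩ := hπ x' x₁ i.hom hi
  obtain ⟨K, V, f, hf, hfR⟩ := exists_fppf_family hR
  choose o φ ψ hφ hψ e using fun j => hx (f j) (hfR j)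
  refine ⟨K, fun j => ⟨o j, φ j, ψ j ≫ c, by
    rw [← hic, ← Category.assoc, e, Functor.map_comp]⟩, ?_⟩
  have key : ∀ j, (∀ y ∈ Set.range (f j).left, y ∈ Set.range (StMod.bmap 𝒳 (φ j))) ∧
      (Flat (f j).left → Flat (StMod.bmap 𝒳 (φ j))) ∧
      (LocallyOfFinitePresentation (f j).left → LocallyOfFinitePresentation (StMod.bmap 𝒳 (φ j))) := fun j => by
    have := hφ j
    generalize f j = f₀ at this ⊢
    generalize V j = V₀ at f₀ this ⊢
    obtain rfl := IsHomLift.domain_eq 𝒳.p f₀ (φ j)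
    obtain rfl := IsHomLift.eq_of_isHomLift 𝒳.p f₀ (φ j)
    exact ⟨fun y hy => hy, id, id⟩
  exact ⟨fun y => by obtain ⟨j, hj⟩ := hf.surj y; exact ⟨j, (key j).1 y hj⟩,
    fun j => (key j).2.1 (hf.flat j), fun j => (key j).2.2 (hf.lfp j)⟩

theorem comap_natural [FibCat.IsFibGrpd 𝒳.p] [FibCat.IsFibGrpd 𝒴.p]
    (hπ : Gerb.LocSurjHom (QuotSh.J Scheme.fppfPrecoverage S) π) {F G : StMod.Mod 𝒴} (hG : G.IsCartesian)
    (ψ : StMod.Mod.comap π F ⟶ StMod.Mod.comap π G) {x' x : 𝒳.obj} (h : π.obj x' ⟶ π.obj x) :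
    ((ci π G x').inv ≫ vert (ψ.app x') ≫ (ci π F x').hom) ≫ totMap F h =
      totMap G h ≫ (ci π G x).inv ≫ vert (ψ.app x) ≫ (ci π F x).hom := by
  obtain ⟨K, l, hl⟩ := exists_lifts π hπ h
  have hc := StMod.isCartesian_comap (f := π) hG
  refine (cancel_epi (ci π G x').hom).1 ?_
  simp only [Category.assoc, Iso.hom_inv_id_assoc]
  refine glue_unique (u := fun k => totMap (StMod.Mod.comap π G) (l k).φ)
    ⟨fun k => cart_totMap hc _, hl.flat, hl.surj⟩ ?_ fun k => ?_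
  · simp only [comp_g, vert_g, totMap_g, ci_hom_g, ci_inv_g, Category.id_comp]
    simp
  · calc totMap (StMod.Mod.comap π G) (l k).φ ≫ vert (ψ.app x') ≫ (ci π F x').hom ≫ totMap F h
        = vert (ψ.app (l k).o) ≫ (ci π F (l k).o).hom ≫ totMap F (π.map (l k).ψ) := by
          rw [← reassoc_of% (totMap_app ψ (l k).φ), ← ci_nat_assoc, ← totMap_comp, (l k).fac]
      _ = totMap (StMod.Mod.comap π G) (l k).ψ ≫ vert (ψ.app x) ≫ (ci π F x).hom := by
          rw [ci_nat]; exact (reassoc_of% (totMap_app ψ (l k).ψ)) _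
      _ = _ := by
          rw [← ci_nat_assoc, ← Category.assoc (totMap G _), ← totMap_comp, (l k).fac, ci_nat'_assoc,
            Iso.hom_inv_id_assoc]

theorem full_comapQ [FibCat.IsFibGrpd 𝒳.p] [FibCat.IsFibGrpd 𝒴.p]
    (hπ : Gerb.IsGerbeOver (QuotSh.J Scheme.fppfPrecoverage S) π) : (StMod.comapQ π).Full := by
  refine ⟨fun {F G} ψ => ?_⟩
  obtain ⟨a, ha⟩ := exists_hom_of_comap π (locImage_of_locSurjObj hπ.1) G.property ψ.hom fun {x' x} h =>
    comap_natural π hπ.2 G.property.1 ψ.hom h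
  exact ⟨ObjectProperty.homMk a, InducedCategory.hom_ext ha⟩

theorem exists_autO [FibCat.IsFibGrpd 𝒳.p] {z x : 𝒳.obj} {a b : z ⟶ x}
    (hb : StMod.bmap 𝒳 a = StMod.bmap 𝒳 b) :
    ∃ α : Gerb.AutO z, α.hom.1 ≫ b = a := by
  have hab : 𝒳.p.map b = 𝒳.p.map a := Over.OverMorphism.ext hb.symm
  haveI h1 : 𝒳.p.IsHomLift (𝒳.p.map a) a := IsHomLift.map 𝒳.p a
  haveI h2 : 𝒳.p.IsHomLift (𝒳.p.map a) b := hab ▸ IsHomLift.map 𝒳.p b
  obtain ⟨i, hi, e⟩ := GerbeLib.exists_vert 𝒳.p (𝒳.p.map a) a b h1 h2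
  haveI := hi
  haveI : 𝒳.p.IsHomLift (inv (𝟙 (𝒳.p.obj z))) (inv i.hom) := inferInstance
  exact ⟨{ hom := ⟨i.hom, hi⟩
           inv := ⟨i.inv, by simpa using this⟩
           hom_inv_id := Functor.Fiber.hom_ext i.hom_inv_id
           inv_hom_id := Functor.Fiber.hom_ext i.inv_hom_id }, e⟩

variable [FibCat.IsFibGrpd 𝒳.p] [FibCat.IsFibGrpd 𝒴.p]

/-- Morphisms with the same image over the same morphism of schemes differ by the kernel. -/
theorem exists_kernel {z x : 𝒳.obj} {a b : z ⟶ x} (hb : StMod.bmap 𝒳 a = StMod.bmap 𝒳 b)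
    (e : π.map a = π.map b) : ∃ α : Gerb.AutO z, α ∈ (Gerb.autMap π z).ker ∧ α.hom.1 ≫ b = a := by
  obtain ⟨α, hα⟩ := exists_autO hb
  refine ⟨α, ?_, hα⟩
  rw [MonoidHom.mem_ker]
  have h : π.map α.hom.1 = 𝟙 _ := by
    refine hom_ext_base (g := π.map b) ?_ ?_
    · have h' := StMod.bmap_map_comm π α.hom.1 (bmap_autO z α)
      rw [Category.comp_id] at h'
      rw [StMod.bmap_id]
      exact (cancel_mono (eqToHom (StMod.sch_obj_eq π z))).1 (h'.trans (Category.id_comp _).symm)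
    · rw [← Functor.map_comp, hα, e, Category.id_comp]
  exact Aut.ext (Functor.Fiber.hom_ext h)

theorem totMap_eq_of_kernel {F : StMod.Mod 𝒳} (hF0 : ∀ (z : 𝒳.obj) (α : Gerb.AutO z),
      α ∈ (Gerb.autMap π z).ker → totMap F α.hom.1 = 𝟙 _)
    {z x : 𝒳.obj} {a b : z ⟶ x} (hb : StMod.bmap 𝒳 a = StMod.bmap 𝒳 b) (e : π.map a = π.map b) :
    totMap F a = totMap F b := by
  obtain ⟨α, hα, hαb⟩ := exists_kernel π hb e
  rw [← hαb, totMap_comp, hF0 z α hα, Category.id_comp]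

theorem exists_E (hπ : Gerb.LocSurjHom (QuotSh.J Scheme.fppfPrecoverage S) π) {F : StMod.Mod 𝒳}
    (hF : StMod.isQCoh 𝒳 F)
    (hF0 : ∀ (z : 𝒳.obj) (α : Gerb.AutO z), α ∈ (Gerb.autMap π z).ker → totMap F α.hom.1 = 𝟙 _)
    {x' x : 𝒳.obj} (h : π.obj x' ⟶ π.obj x) :
    ∃ E : tot F x' ⟶ tot F x, E.g = hbase π h ∧ ∀ l : HLift π h, totMap F l.φ ≫ E = totMap F l.ψ := by
  obtain ⟨K, sub, hsub⟩ := exists_lifts π hπ h
  haveI : Coh.IsQCoh (tot F x').M := hF.2 x'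
  refine exists_glue_all (R := tot F x') (P := tot F x) (hbase π h) (fun l : HLift π h => totMap F l.φ)
    (fun l => cart_totMap hF.1 _) (fun l => totMap F l.ψ) ?_ ?_ sub hsub
  · intro l; exact l.base
  intro C i j s t hs ht hst
  have hb : s.g ≫ StMod.bmap 𝒳 i.φ = t.g ≫ StMod.bmap 𝒳 j.φ := congrArg MHom.g hst
  obtain ⟨z, c, e, he⟩ := exists_obj_over i.o s.g
  have hd : (e.hom ≫ t.g) ≫ StMod.bmap 𝒳 j.φ = StMod.bmap 𝒳 (c ≫ i.φ) := by
    rw [Category.assoc, ← hb, StMod.bmap_comp, ← he, Category.assoc]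
  let d := liftTo j.φ (c ≫ i.φ) _ hd
  let pe := can e.hom C.M
  refine glue_unique (u := fun _ : PUnit.{u + 1} => pe) ⟨fun _ => cart_can _ _, fun _ => inferInstanceAs (Flat e.hom),
    fun y => ⟨PUnit.unit, e.inv y, by
      show e.hom (e.inv y) = y
      rw [← Scheme.Hom.comp_apply, e.inv_hom_id]
      rfl⟩⟩
    (by rw [comp_g, comp_g, totMap_g, totMap_g, i.base, j.base, reassoc_of% hb]) fun _ => ?_
  let c₁ := (cart_totMap hF.1 c).lift (pe ≫ s) (𝟙 _) (by simp [pe, he])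
  let c₂ := (cart_totMap hF.1 d).lift (pe ≫ t) (𝟙 _) (by simp [pe, d, bmap_liftTo])
  have f₁ : c₁ ≫ totMap F c = pe ≫ s := Cart.fac _ _ _ _
  have f₂ : c₂ ≫ totMap F d = pe ≫ t := Cart.fac _ _ _ _
  have hd' : d ≫ j.φ = c ≫ i.φ := liftTo_fac _ _ _ _
  have hc : c₁ = c₂ := by
    refine (cart_totMap hF.1 (c ≫ i.φ)).cancel (by rw [Cart.lift_g, Cart.lift_g]) ?_
    calc c₁ ≫ totMap F (c ≫ i.φ) = (c₁ ≫ totMap F c) ≫ totMap F i.φ := by rw [totMap_comp, Category.assoc]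
      _ = (c₂ ≫ totMap F d) ≫ totMap F j.φ := by rw [f₁, f₂, Category.assoc, Category.assoc, hst]
      _ = c₂ ≫ totMap F (c ≫ i.φ) := by rw [Category.assoc, ← totMap_comp, hd']
  have key : totMap F (c ≫ i.ψ) = totMap F (d ≫ j.ψ) := by
    refine totMap_eq_of_kernel π hF0 ?_ ?_
    · rw [StMod.bmap_comp, StMod.bmap_comp, i.base, j.base, ← Category.assoc, ← StMod.bmap_comp,
        ← Category.assoc, ← StMod.bmap_comp, hd']
    · rw [Functor.map_comp, Functor.map_comp, ← i.fac, ← j.fac, ← Category.assoc, ← Functor.map_comp,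
        ← Category.assoc, ← Functor.map_comp, hd']
  calc pe ≫ s ≫ totMap F i.ψ = c₁ ≫ totMap F (c ≫ i.ψ) := by
        rw [totMap_comp, ← Category.assoc, ← f₁, Category.assoc]
    _ = c₂ ≫ totMap F (d ≫ j.ψ) := by rw [hc, key]
    _ = pe ≫ t ≫ totMap F j.ψ := by rw [totMap_comp, ← Category.assoc c₂, f₂, Category.assoc]

theorem exists_descend_kernel (hπ : Gerb.IsGerbeOver (QuotSh.J Scheme.fppfPrecoverage S) π) (F : StMod.QCoh 𝒳)
    (hF0 : ∀ (z : 𝒳.obj) (α : Gerb.AutO z), α ∈ (Gerb.autMap π z).ker → totMap F.obj α.hom.1 = 𝟙 _) :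
    ∃ G : StMod.QCoh 𝒴, Nonempty (F ≅ (StMod.comapQ π).obj G) := by
  choose E hEg hE using fun {x' x : 𝒳.obj} (h : π.obj x' ⟶ π.obj x) => exists_E π hπ.2 F.property hF0 h
  have hcov : ∀ {x' x : 𝒳.obj} (h : π.obj x' ⟶ π.obj x), ∃ (K : Type u) (l : K → HLift π h),
      IsFlatCover (fun k => totMap F.obj (l k).φ) := fun h => by
    obtain ⟨K, l, hl⟩ := exists_lifts π hπ.2 h
    exact ⟨K, l, ⟨fun k => cart_totMap F.property.1 _, hl.flat, hl.surj⟩⟩
  have huniq : ∀ {x' x : 𝒳.obj} (h : π.obj x' ⟶ π.obj x) (E' : tot F.obj x' ⟶ tot F.obj x), E'.g = hbase π h →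
      (∀ l : HLift π h, totMap F.obj l.φ ≫ E' = totMap F.obj l.ψ) → E h = E' := fun h E' hg' h' => by
    obtain ⟨K, l, hl⟩ := hcov h
    exact glue_unique hl ((hEg h).trans hg'.symm) fun k => (hE h _).trans (h' _).symm
  have hpre : ∀ {x'' x' x : 𝒳.obj} (φ : x'' ⟶ x') (h : π.obj x' ⟶ π.obj x),
      E (π.map φ ≫ h) = totMap F.obj φ ≫ E h := fun φ h => by
    refine huniq _ _ (by rw [comp_g, hEg, totMap_g, hbase_comp, hbase_map]) fun l => ?_
    rw [← Category.assoc, ← totMap_comp]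
    exact hE h ⟨l.o, l.φ ≫ φ, l.ψ, by rw [Functor.map_comp, Category.assoc, l.fac]⟩
  have hid : ∀ x, E (𝟙 (π.obj x)) = 𝟙 _ := fun x => by
    refine huniq _ _ (by rw [hbase_id]; rfl) fun l => ?_
    rw [Category.comp_id]
    refine totMap_eq_of_kernel π hF0 ?_ ?_
    · rw [l.base, hbase_id, Category.comp_id]
    · rw [← l.fac, Category.comp_id]
  obtain ⟨G, ⟨e⟩⟩ := exists_descend π (locImage_of_locSurjObj hπ.1) F.obj F.property (fun h => E h)
    (fun h => by rw [hEg]; exact eqToHom_hbase π h) hid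
    (fun {x'' x' x} h h' => by
      obtain ⟨K, l, hl⟩ := hcov h
      refine glue_unique hl (by rw [comp_g, hEg, hEg, hEg, hbase_comp]) fun k => ?_
      rw [← hpre, ← Category.assoc, (l k).fac, hpre, reassoc_of% (hE h (l k))])
    (fun h => by
      obtain ⟨K, l, hl⟩ := hcov h
      exact cart_of_cover hl _ fun k => by rw [hE]; exact cart_totMap F.property.1 _)
    (fun φ => by
      have h := hpre φ (𝟙 _)
      rwa [hid, Category.comp_id, Category.comp_id] at h)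
  exact ⟨G, ⟨ObjectProperty.isoMk _ e.symm⟩⟩

end TwDescLib
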