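import Groth.Agent.TwDescLib.Glue
import Groth.Agent.AdeqModLib.Good
import Groth.Agent.GerbeLib.Basic
import Groth.Prelude.Def_StGerb

/-!
# Local sections of a functor on small fppf families
-/

set_option autoImplicit false
set_option linter.all false
set_option backward.isDefEq.respectTransparency false
set_option backward.isDefEq.respectTransparency.types false

noncomputable section

universe u v w v' w' t

open CategoryTheory CategoryTheory.Limits AlgebraicGeometry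

namespace TwDescLib

/-- A family of morphisms which is jointly surjective, flat and locally of finite presentation. -/
structure IsFppf {K : Type t} {T : Scheme.{u}} {Z : K → Scheme.{u}} (f : ∀ k, Z k ⟶ T) : Prop where
  surj : ∀ x : T, ∃ k, x ∈ Set.range (f k)
  flat : ∀ k, Flat (f k)
  lfp : ∀ k, LocallyOfFinitePresentation (f k)

theorem IsFppf.mem {K : Type u} {T : Scheme.{u}} {Z : K → Scheme.{u}} {f : ∀ k, Z k ⟶ T} (h : IsFppf f) :
    Presieve.ofArrows Z f ∈ Scheme.fpqcPrecoverage T :=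
  Scheme.fppfPrecoverage_le_fpqcPrecoverage _
    ((Scheme.ofArrows_mem_precoverage_iff _).2 ⟨h.surj, fun k => ⟨h.flat k, h.lfp k⟩⟩)

theorem IsFppf.pullback {K : Type t} {T T' : Scheme.{u}} {Z : K → Scheme.{u}} {f : ∀ k, Z k ⟶ T} (h : IsFppf f)
    (a : T' ⟶ T) : IsFppf (fun k => pullback.fst a (f k)) where
  surj x := by
    obtain ⟨k, y, hy⟩ := h.surj (a x)
    obtain ⟨z, hz, -⟩ := Scheme.Pullback.exists_preimage_pullback (f := a) (g := f k) x y hy.symm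
    exact ⟨k, z, hz⟩
  flat k := by haveI := h.flat k; infer_instance
  lfp k := by haveI := h.lfp k; infer_instance

variable {S : Scheme.{u}}

/-- A covering sieve contains a small fppf family. -/
theorem exists_fppf_family {T : Over S} {R : Sieve T} (hR : R ∈ QuotSh.J Scheme.fppfPrecoverage.{u} S T) :
    ∃ (K : Type u) (V : K → Over S) (f : ∀ k, V k ⟶ T), IsFppf (fun k => (f k).left) ∧ ∀ k, R (f k) := by
  obtain ⟨K, Yf, g, hg, hgR⟩ := AdeqModLib.good_fppf.mem ((GrothendieckTopology.mem_over_iff _ _).1 hR)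
  obtain ⟨hs, hp⟩ := (Scheme.ofArrows_mem_precoverage_iff _).1 hg
  exact ⟨K, fun k => Over.mk (g k ≫ T.hom), fun k => Over.homMk (g k),
    ⟨hs, fun k => (hp k).1, fun k => (hp k).2⟩, fun k => (Sieve.overEquiv_iff R (g k)).1 (hgR k)⟩

variable {𝒴 : BasedCategory.{v, w} (Over S)}

/-- A lift along a morphism over a given morphism of schemes. -/
theorem existsUnique_lift [FibCat.IsFibGrpd 𝒴.p] {z z' η : 𝒴.obj} (g : z' ⟶ η) (γ : z ⟶ η)
    (b : StMod.sch 𝒴 z ⟶ StMod.sch 𝒴 z') (hb : b ≫ StMod.bmap 𝒴 g = StMod.bmap 𝒴 γ) :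
    ∃! β : z ⟶ z', StMod.bmap 𝒴 β = b ∧ β ≫ g = γ := by
  have hw : b ≫ (𝒴.p.obj z').hom = (𝒴.p.obj z).hom := by
    rw [← Over.w (𝒴.p.map g), ← Over.w (𝒴.p.map γ)]
    exact (Category.assoc _ _ _).symm.trans (congrArg (· ≫ (𝒴.p.obj η).hom) hb)
  let b' : 𝒴.p.obj z ⟶ 𝒴.p.obj z' := Over.homMk b hw
  haveI : 𝒴.p.IsHomLift (𝒴.p.map g) g := IsHomLift.map 𝒴.p g
  haveI : 𝒴.p.IsStronglyCartesian (𝒴.p.map g) g := FibLib.isStronglyCartesian_of_isFibGrpd (p := 𝒴.p) _ g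
  have hbb : 𝒴.p.map γ = b' ≫ 𝒴.p.map g := Over.OverMorphism.ext hb.symm
  let β := Functor.IsStronglyCartesian.map 𝒴.p (𝒴.p.map g) g hbb γ
  haveI : 𝒴.p.IsHomLift b' β := Functor.IsStronglyCartesian.map_isHomLift 𝒴.p (𝒴.p.map g) g hbb γ
  have hβ : StMod.bmap 𝒴 β = b := congrArg (fun k => k.left) (IsHomLift.eq_of_isHomLift 𝒴.p b' β).symm
  refine ⟨β, ⟨hβ, Functor.IsStronglyCartesian.fac 𝒴.p (𝒴.p.map g) g hbb γ⟩, fun β' ⟨h1, h2⟩ => ?_⟩
  have : 𝒴.p.map β' = b' := Over.OverMorphism.ext h1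
  haveI : 𝒴.p.IsHomLift b' β' := this ▸ IsHomLift.map 𝒴.p β'
  exact Functor.IsStronglyCartesian.map_uniq 𝒴.p (𝒴.p.map g) g hbb γ β' h2

/-- The chosen lift. -/
def liftTo [FibCat.IsFibGrpd 𝒴.p] {z z' η : 𝒴.obj} (g : z' ⟶ η) (γ : z ⟶ η)
    (b : StMod.sch 𝒴 z ⟶ StMod.sch 𝒴 z') (hb : b ≫ StMod.bmap 𝒴 g = StMod.bmap 𝒴 γ) : z ⟶ z' :=
  (existsUnique_lift g γ b hb).choose

theorem bmap_liftTo [FibCat.IsFibGrpd 𝒴.p] {z z' η : 𝒴.obj} (g : z' ⟶ η) (γ : z ⟶ η)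
    (b : StMod.sch 𝒴 z ⟶ StMod.sch 𝒴 z') (hb : b ≫ StMod.bmap 𝒴 g = StMod.bmap 𝒴 γ) :
    StMod.bmap 𝒴 (liftTo g γ b hb) = b := (existsUnique_lift g γ b hb).choose_spec.1.1

@[reassoc]
theorem liftTo_fac [FibCat.IsFibGrpd 𝒴.p] {z z' η : 𝒴.obj} (g : z' ⟶ η) (γ : z ⟶ η)
    (b : StMod.sch 𝒴 z ⟶ StMod.sch 𝒴 z') (hb : b ≫ StMod.bmap 𝒴 g = StMod.bmap 𝒴 γ) :
    liftTo g γ b hb ≫ g = γ := (existsUnique_lift g γ b hb).choose_spec.1.2

/-- Two morphisms with the same image after a morphism and over the same morphism of schemes are equal. -/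
theorem hom_ext_base [FibCat.IsFibGrpd 𝒴.p] {z z' η : 𝒴.obj} {g : z' ⟶ η} {β β' : z ⟶ z'}
    (h : StMod.bmap 𝒴 β = StMod.bmap 𝒴 β') (e : β ≫ g = β' ≫ g) : β = β' :=
  (existsUnique_lift g (β' ≫ g) (StMod.bmap 𝒴 β') (StMod.bmap_comp _ _).symm).unique ⟨h, e⟩ ⟨rfl, rfl⟩

/-- An object over a given scheme, with a morphism to a given object. -/
theorem exists_obj_over [FibCat.IsFibGrpd 𝒴.p] (η : 𝒴.obj) {Y : Scheme.{u}} (q : Y ⟶ StMod.sch 𝒴 η) :
    ∃ (y : 𝒴.obj) (c : y ⟶ η) (e : StMod.sch 𝒴 y ≅ Y), e.hom ≫ q = StMod.bmap 𝒴 c := by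
  suffices H : ∀ (T : Over S) (k : T ⟶ 𝒴.p.obj η),
      ∃ (y : 𝒴.obj) (c : y ⟶ η) (e : StMod.sch 𝒴 y ≅ T.left), e.hom ≫ k.left = StMod.bmap 𝒴 c from
    H (Over.mk (q ≫ (𝒴.p.obj η).hom)) (Over.homMk q)
  intro T k
  obtain ⟨y, c, hc⟩ := FibCat.IsFibGrpd.exists_lift (p := 𝒴.p) k
  have := hc
  obtain rfl := IsHomLift.domain_eq 𝒴.p k c
  obtain rfl := IsHomLift.eq_of_isHomLift 𝒴.p k c
  exact ⟨y, c, Iso.refl _, Category.id_comp _⟩

variable {W : Type t}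

/-- A local section of `f` above `η` pulled back along `q`. -/
structure Piece (f : W → 𝒴.obj) (η : 𝒴.obj) {Y : Scheme.{u}} (q : Y ⟶ StMod.sch 𝒴 η) where
  /-- the index -/
  w : W
  /-- the morphism -/
  γ : f w ⟶ η
  /-- its factorisation through the given scheme -/
  h : StMod.sch 𝒴 (f w) ⟶ Y
  e : h ≫ q = StMod.bmap 𝒴 γ

/-- Every object is fppf locally in the image. -/
def LocImage (f : W → 𝒴.obj) : Prop :=
  ∀ η : 𝒴.obj, ∃ (K : Type u) (w : K → W) (g : ∀ k, f (w k) ⟶ η), IsFppf (fun k => StMod.bmap 𝒴 (g k))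

theorem exists_pieces [FibCat.IsFibGrpd 𝒴.p] {f : W → 𝒴.obj} (hf : LocImage f) (η : 𝒴.obj) {Y : Scheme.{u}}
    (q : Y ⟶ StMod.sch 𝒴 η) :
    ∃ (K : Type u) (p : K → Piece f η q), IsFppf (fun k => (p k).h) := by
  obtain ⟨y, c, e, he⟩ := exists_obj_over η q
  obtain ⟨K, w, g, hg⟩ := hf y
  refine ⟨K, fun k => ⟨w k, g k ≫ c, StMod.bmap 𝒴 (g k) ≫ e.hom, by rw [Category.assoc, he, StMod.bmap_comp]⟩,
    ⟨fun x => ?_, fun k => ?_, fun k => ?_⟩⟩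
  · obtain ⟨k, z, hz⟩ := hg.surj (e.inv x)
    refine ⟨k, z, ?_⟩
    show e.hom (StMod.bmap 𝒴 (g k) z) = x
    rw [hz, ← Scheme.Hom.comp_apply, e.inv_hom_id]
    rfl
  · haveI := hg.flat k
    show Flat (StMod.bmap 𝒴 (g k) ≫ e.hom)
    infer_instance
  · haveI := hg.lfp k
    show LocallyOfFinitePresentation (StMod.bmap 𝒴 (g k) ≫ e.hom)
    infer_instance

theorem locImage_of_locSurjObj {𝒳 : BasedCategory.{v', w'} (Over S)} {π : 𝒳 ⥤ᵇ 𝒴}
    (h : Gerb.LocSurjObj (QuotSh.J Scheme.fppfPrecoverage S) π) : LocImage (fun x => π.obj x) := by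
  intro η
  obtain ⟨R, hR, hx⟩ := h η
  obtain ⟨K, V, f, hf, hfR⟩ := exists_fppf_family hR
  choose x g hg using fun k => hx (f k) (hfR k)
  have key : ∀ k, (∀ y ∈ Set.range (f k).left, y ∈ Set.range (StMod.bmap 𝒴 (g k))) ∧ (Flat (f k).left → Flat (StMod.bmap 𝒴 (g k))) ∧
      (LocallyOfFinitePresentation (f k).left → LocallyOfFinitePresentation (StMod.bmap 𝒴 (g k))) := fun k => by
    have := hg k
    generalize f k = f₀ at this ⊢
    generalize V k = V₀ at f₀ this ⊢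
    obtain rfl := IsHomLift.domain_eq 𝒴.p f₀ (g k)
    obtain rfl := IsHomLift.eq_of_isHomLift 𝒴.p f₀ (g k)
    exact ⟨fun y hy => hy, id, id⟩
  exact ⟨K, x, g, ⟨fun y => by obtain ⟨k, hk⟩ := hf.surj y; exact ⟨k, (key k).1 y hk⟩,
    fun k => (key k).2.1 (hf.flat k), fun k => (key k).2.2 (hf.lfp k)⟩⟩

end TwDescLib
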