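import Groth.Agent.TwDescLib.Arr

/-!
# Gluing arrows and modules along fpqc families
-/

set_option autoImplicit false
set_option linter.all false
set_option backward.isDefEq.respectTransparency false
set_option backward.isDefEq.respectTransparency.types false
set_option maxHeartbeats 800000

noncomputable section

universe u v w

open CategoryTheory CategoryTheory.Limits AlgebraicGeometry TopologicalSpace Opposite
open KFlatLib (pb puSec)
open QCohDescLib (compIso)

namespace TwDescLib

/-- A flat jointly surjective family of cartesian arrows. -/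
structure IsFlatCover {ι : Type w} {R : MObj.{u}} {A : ι → MObj.{u}} (u : ∀ i, A i ⟶ R) : Prop where
  cart : ∀ i, Cart (u i)
  flat : ∀ i, Flat (u i).g
  surj : ∀ x : R.X, ∃ i, x ∈ Set.range (u i).g

theorem glue_unique {ι : Type u} {R P : MObj.{u}} {A : ι → MObj.{u}} {u : ∀ i, A i ⟶ R} (hu : IsFlatCover u)
    {c c' : R ⟶ P} (hg : c.g = c'.g) (h : ∀ i, u i ≫ c = u i ≫ c') : c = c' := by
  have hc := cart_can c.g P.M
  let d := (cart_can c.g P.M).lift c' (𝟙 R.X) (by rw [can_g, Category.id_comp, hg])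
  obtain ⟨v', hv'⟩ := exists_vert (M := pb c.g P.M) (N := R.M) d (Cart.lift_g _ _ _ _)
  have hc' : vert v' ≫ can c.g P.M = c' := by rw [hv']; exact Cart.fac _ _ _ _
  suffices e : adj c = v' by rw [← vert_adj_can c, e, hc']
  haveI : ∀ i, Flat (u i).g := hu.flat
  refine QCohDescLib.eq_of_pullback_map_eq (fun i => (u i).g) hu.surj _ _ fun i => ?_
  haveI : IsIso (adj (u i)) := hu.cart i
  refine (cancel_mono (adj (u i))).1 ?_
  refine vert_can_inj (u i).g (pb c.g P.M) ?_
  rw [vert_comp, vert_comp, Category.assoc, Category.assoc, can_natural, can_natural,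
    ← Category.assoc, vert_adj_can, ← Category.assoc, vert_adj_can]
  refine (cart_can c.g P.M).cancel (by simp) ?_
  rw [Category.assoc, vert_adj_can, Category.assoc, hc', h i]

theorem exists_glue {ι : Type u} {R P : MObj.{u}} [Coh.IsQCoh R.M] (g : R.X ⟶ P.X) {A : ι → MObj.{u}}
    (u : ∀ i, A i ⟶ R) (hu : ∀ i, Cart (u i))
    (hf : Presieve.ofArrows (fun i => (A i).X) (fun i => (u i).g) ∈ Scheme.fpqcPrecoverage R.X)
    (v : ∀ i, A i ⟶ P) (hv : ∀ i, (v i).g = (u i).g ≫ g)
    (H : ∀ (C : MObj.{u}) (i j : ι) (s : C ⟶ A i) (t : C ⟶ A j), Coh.IsQCoh C.M → Cart s → Cart t →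
      s ≫ u i = t ≫ u j → s ≫ v i = t ≫ v j) :
    ∃ c : R ⟶ P, c.g = g ∧ ∀ i, u i ≫ c = v i := by
  haveI : ∀ i, IsIso (adj (u i)) := hu
  let w : ∀ i, (⟨(A i).X, pb (u i).g R.M⟩ : MObj) ⟶ A i := fun i => vert (inv (adj (u i)))
  have hw : ∀ i, w i ≫ u i = can (u i).g R.M := fun i => vert_inv_adj (u i)
  have hvw : ∀ i, vert (adj (u i)) ≫ w i = 𝟙 (A i) := fun i => by
    rw [← vert_comp, IsIso.inv_hom_id, vert_id]
  have hcc : ∀ i, Cart (can (u i).g (pb g P.M) ≫ can g P.M) := fun i => (cart_can _ _).comp (cart_can _ _)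
  have ex : ∀ i, ∃ φ : pb (u i).g (pb g P.M) ⟶ pb (u i).g R.M,
      vert φ ≫ can (u i).g (pb g P.M) ≫ can g P.M = w i ≫ v i := fun i => by
    obtain ⟨φ, hφ⟩ := exists_vert ((hcc i).lift (w i ≫ v i) (𝟙 _) (by simp [w, hv]))
      (Cart.lift_g _ _ _ _)
    exact ⟨φ, by rw [hφ]; exact Cart.fac _ _ _ _⟩
  choose φ hφ using ex
  obtain ⟨ψ, hψ⟩ := QCohDescLib.exists_hom_descend (fun i => (u i).g) hf (pb g P.M) R.M φ
    fun i j Y a b q ea eb => by
      refine vert_can_inj a (pb (u i).g (pb g P.M)) ?_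
      refine (hcc i).cancel (by simp) ?_
      have hl : ∀ (M : R.X.Modules), vert ((compIso M a ea).hom ≫ (compIso M b eb).inv) ≫ can a (pb (u i).g M) ≫
          can (u i).g M = can b (pb (u j).g M) ≫ can (u j).g M := fun M => by
        rw [vert_comp, Category.assoc, can_comp a ea, ← can_comp' b eb]
      set s := vert ((compIso R.M a ea).hom ≫ (compIso R.M b eb).inv) ≫ can a (pb (u i).g R.M) with hs
      have e1 : (s ≫ w i) ≫ u i = (can b (pb (u j).g R.M) ≫ w j) ≫ u j := by
        simp only [hs, Category.assoc, hw]; exact hl _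
      have hcs : Cart (s ≫ w i) := by
        refine Cart.of_comp (b := u i) ?_ (hu i)
        rw [e1]
        exact (((cart_can _ _).comp (cart_vert _)).comp (hu j))
      haveI hq1 : Coh.IsQCoh (pb (u j).g R.M) := KFlatLib.isQCoh_pullback _ _
      have e2 := H _ i j (s ≫ w i) (can b (pb (u j).g R.M) ≫ w j) (KFlatLib.isQCoh_pullback b _) hcs ((cart_can _ _).comp (cart_vert _)) e1
      simp only [vert_comp, Category.assoc, can_natural_assoc]
      rw [hφ i]
      refine (show _ = _ from ?_).trans (e2.trans ?_)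
      · simp only [hs, vert_comp, Category.assoc]
      · rw [Category.assoc, ← hφ j]
        have hl' := hl (pb g P.M)
        rw [vert_comp, Category.assoc] at hl'
        rw [reassoc_of% hl', can_natural_assoc]
  refine ⟨vert ψ ≫ can g P.M, by simp, fun i => ?_⟩
  conv_lhs => rw [← vert_adj_can (u i)]
  rw [Category.assoc, ← Category.assoc (can _ _) (vert ψ), ← can_natural, Category.assoc, hψ i, hφ i,
    ← Category.assoc, hvw, Category.id_comp]

theorem cart_of_cover {ι : Type u} {R P : MObj.{u}} {A : ι → MObj.{u}} {u : ∀ i, A i ⟶ R} (hu : IsFlatCover u)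
    (c : R ⟶ P) (h : ∀ i, Cart (u i ≫ c)) : Cart c := by
  haveI : ∀ i, Flat (u i).g := hu.flat
  refine QCohDescLib.isIso_of_pullback_family (fun i => (u i).g)
    (fun x => by obtain ⟨i, z, hz⟩ := hu.surj x; exact ⟨i, z, hz⟩) _ fun i => ?_
  haveI : IsIso (adj (u i)) := hu.cart i
  -- the composite is cartesian
  have h1 : Cart ((can (u i).g R.M ≫ c) : (⟨(A i).X, pb (u i).g R.M⟩ : MObj) ⟶ P) := by
    have e : can (u i).g R.M = vert (inv (adj (u i))) ≫ u i := (vert_inv_adj (u i)).symm
    rw [e, Category.assoc]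
    exact (cart_vert _).comp (h i)
  have h2 : can (u i).g R.M ≫ c = vert ((Scheme.Modules.pullback (u i).g).map (adj c)) ≫
      can (u i).g (pb c.g P.M) ≫ can c.g P.M := by
    rw [← Category.assoc, can_natural, Category.assoc, vert_adj_can]
  rw [h2] at h1
  have h3 := Cart.of_comp h1 ((cart_can _ _).comp (cart_can _ _))
  -- a vertical cartesian arrow comes from an isomorphism
  generalize (Scheme.Modules.pullback (u i).g).map (adj c) = t at h3 ⊢
  haveI : IsIso (adj (vert t)) := h3
  have h4 : vert t = vert (adj (vert t)) ≫ can (𝟙 _) (pb (u i).g (pb c.g P.M)) := (vert_adj_can (vert t)).symm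
  haveI : IsIso (can (𝟙 (A i).X) (pb (u i).g (pb c.g P.M))) := by
    let l := (cart_can (𝟙 (A i).X) (pb (u i).g (pb c.g P.M))).lift (𝟙 _) (𝟙 _) (by simp)
    refine ⟨l, (cart_can _ _).cancel ?_ ?_, Cart.fac _ _ _ _⟩
    · simp [l, Cart.lift_g]
    · rw [Category.assoc, Cart.fac, Category.comp_id, Category.id_comp]
  haveI : IsIso (vert (adj (vert t))) := inferInstanceAs (IsIso (vertIso (asIso (adj (vert t)))).hom)
  haveI : IsIso (vert t) := by
    rw [h4]
    exact IsIso.comp_isIso
  obtain ⟨l, hl⟩ := exists_vert (inv (vert t)) (by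
    exact (Category.comp_id _).symm.trans (congrArg MHom.g (IsIso.inv_hom_id (vert t))))
  refine ⟨l, vert_injective ?_, vert_injective ?_⟩
  · rw [vert_comp, hl, vert_id, IsIso.inv_hom_id]
  · rw [vert_comp, hl, vert_id, IsIso.hom_inv_id]

end TwDescLib
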