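import Groth.Agent.TwDescLib.Scalar
import Groth.Agent.TwDescLib.Glue

/-!
# Being twisted is local
-/

set_option autoImplicit false
set_option linter.all false
set_option backward.isDefEq.respectTransparency false
set_option backward.isDefEq.respectTransparency.types false

noncomputable section

universe u v w

open CategoryTheory CategoryTheory.Limits AlgebraicGeometry TopologicalSpace Opposite
open TwSh

namespace TwDescLib

variable {S : Scheme.{u}} {𝒳 : BasedCategory.{v, w} (Over S)} {A : (Over S)ᵒᵖ ⥤ GrpCat.{u}}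

theorem charUnit_pow_nat (χ : A ⟶ GmPsh S) (d : ℤ) {x' x : 𝒳.obj} (φ : x' ⟶ x) (a : A.obj (op (𝒳.p.obj x))) :
    (StMod.bmap 𝒳 φ).appTop ((charUnit χ x a ^ d)⁻¹).val =
      ((charUnit χ x' (A.map (𝒳.p.map φ).op a) ^ d)⁻¹).val := by
  have h : charUnit χ x' (A.map (𝒳.p.map φ).op a) =
      Units.map ((StMod.bmap 𝒳 φ).appTop.hom.toMonoidHom) (charUnit χ x a) :=
    NatTrans.naturality_apply χ (𝒳.p.map φ).op a
  rw [h, ← map_zpow, ← map_inv, Units.coe_map]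
  rfl

theorem charUnit_mul (χ : A ⟶ GmPsh S) (x : 𝒳.obj) (a b : A.obj (op (𝒳.p.obj x))) :
    charUnit χ x (a * b) = charUnit χ x a * charUnit χ x b :=
  map_mul (χ.app (op (𝒳.p.obj x))).hom a b

theorem charUnit_one (χ : A ⟶ GmPsh S) (x : 𝒳.obj) : charUnit χ x (1 : A.obj (op (𝒳.p.obj x))) = 1 :=
  map_one (χ.app (op (𝒳.p.obj x))).hom

theorem totMap_twisted_of_cover (χ : A ⟶ GmPsh S) (d : ℤ) (ι : BandHom 𝒳 A) {F : StMod.Mod 𝒳}
    (hF : F.IsCartesian) (x : 𝒳.obj) (a : A.obj (op (𝒳.p.obj x))) {K : Type u} (z : K → 𝒳.obj)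
    (φ : ∀ k, z k ⟶ x) (hfl : ∀ k, Flat (StMod.bmap 𝒳 (φ k)))
    (hsurj : ∀ y, ∃ k, y ∈ Set.range (StMod.bmap 𝒳 (φ k)))
    (h : ∀ k, totMap F (ι.hom (z k) (A.map (𝒳.p.map (φ k)).op a)).hom.1 =
      sc (tot F (z k)) ((charUnit χ (z k) (A.map (𝒳.p.map (φ k)).op a) ^ d)⁻¹).val) :
    totMap F (ι.hom x a).hom.1 = sc (tot F x) ((charUnit χ x a ^ d)⁻¹).val := by
  refine glue_unique (u := fun k => totMap F (φ k)) ⟨fun k => cart_totMap hF _, hfl, hsurj⟩ ?_ fun k => ?_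
  · rw [totMap_g, bmap_autO, sc_g]
  · rw [← totMap_comp, ← ι.natural, totMap_comp, h k, ← charUnit_pow_nat]
    exact sc_nat (totMap F (φ k)) _

end TwDescLib
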