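import Groth.Agent.TwDescLib.Lift
import Groth.Agent.TwDescLib.Twisted

/-!
# Twisted modules and sections of a gerbe
-/

set_option autoImplicit false
set_option linter.all false
set_option backward.isDefEq.respectTransparency false
set_option backward.isDefEq.respectTransparency.types false
set_option maxHeartbeats 800000

noncomputable section

universe u v w

open CategoryTheory CategoryTheory.Limits AlgebraicGeometry TopologicalSpace Opposite
open TwSh

namespace TwDescLib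

variable {S : Scheme.{u}} {X : Over S} {𝒳 : AlgSt.Cat S} [FibCat.IsFibGrpd 𝒳.p]
  [FibCat.IsFibGrpd (AlgSt.ofSch X).p] (π : 𝒳 ⥤ᵇ AlgSt.ofSch X) (σ : AlgSt.ofSch X ⥤ᵇ 𝒳)
  (e : BasedFunctor.comp σ π ≅ BasedFunctor.id (AlgSt.ofSch X))

/-- The component of the identification of the composite with the identity. -/
def secIso (t : (AlgSt.ofSch X).obj) : π.obj (σ.obj t) ≅ t where
  hom := e.hom.toNatTrans.app t
  inv := e.inv.toNatTrans.app t
  hom_inv_id := congrArg (fun n : BasedFunctor.comp σ π ⟶ BasedFunctor.comp σ π => n.toNatTrans.app t) e.hom_inv_id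
  inv_hom_id := congrArg
    (fun n : BasedFunctor.id (AlgSt.ofSch X) ⟶ BasedFunctor.id (AlgSt.ofSch X) => n.toNatTrans.app t) e.inv_hom_id

@[reassoc]
theorem secIso_nat {t' t : (AlgSt.ofSch X).obj} (φ : t' ⟶ t) :
    π.map (σ.map φ) ≫ (secIso π σ e t).hom = (secIso π σ e t').hom ≫ φ :=
  e.hom.toNatTrans.naturality φ

/-- The morphism of the base under a morphism between values of the section. -/
def down {t' t : (AlgSt.ofSch X).obj} (h : σ.obj t' ⟶ σ.obj t) : t' ⟶ t :=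
  (secIso π σ e t').inv ≫ π.map h ≫ (secIso π σ e t).hom

theorem map_down {t' t : (AlgSt.ofSch X).obj} (h : σ.obj t' ⟶ σ.obj t) :
    π.map (σ.map (down π σ e h)) = π.map h := by
  rw [← cancel_mono (secIso π σ e t).hom, secIso_nat, down, Iso.hom_inv_id_assoc]

theorem bmap_down {t' t : (AlgSt.ofSch X).obj} (h : σ.obj t' ⟶ σ.obj t) :
    StMod.bmap 𝒳 (σ.map (down π σ e h)) = StMod.bmap 𝒳 h := by
  rw [← hbase_map π, ← hbase_map π h, map_down]

include e in
theorem locImage_section (hπ : Gerb.LocSurjHom (QuotSh.J Scheme.fppfPrecoverage S) π) :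
    LocImage (fun t => σ.obj t) := by
  intro ξ
  let t := π.obj ξ
  let b : π.obj (σ.obj t) ⟶ π.obj ξ := (secIso π σ e t).hom
  obtain ⟨K, l, hl⟩ := exists_lifts π hπ b
  let m : ∀ k, π.obj (l k).o ⟶ t := fun k => π.map (l k).φ ≫ b
  have hsm : ∀ k, (eqToHom (StMod.sch_obj_eq σ (π.obj (l k).o)) ≫ eqToHom (StMod.sch_obj_eq π (l k).o)) ≫
      StMod.bmap 𝒳 (l k).ψ ≫ 𝟙 _ =
      StMod.bmap 𝒳 (σ.map (m k)) ≫ eqToHom (StMod.sch_obj_eq σ t) ≫ eqToHom (StMod.sch_obj_eq π ξ) := fun k => by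
    rw [reassoc_of% (StMod.bmap_map_comm σ (m k) rfl)]
    show _ = eqToHom _ ≫ StMod.bmap _ (π.map (l k).φ ≫ b) ≫ _
    rw [(l k).fac, StMod.bmap_map_comm π (l k).ψ rfl]
    simp
  haveI : IsIso (StMod.bmap (AlgSt.ofSch X) b) := by
    show IsIso (Over.Hom.left ((AlgSt.ofSch X).p.map b))
    infer_instance
  haveI hib : IsIso (hbase π b) := by
    unfold hbase
    infer_instance
  -- lift the restriction of the section to the local object
  have hψ : ∀ k, (eqToHom (StMod.sch_obj_eq σ (π.obj (l k).o)) ≫ eqToHom (StMod.sch_obj_eq π (l k).o)) ≫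
      StMod.bmap 𝒳 (l k).φ = StMod.bmap 𝒳 (σ.map (m k)) := fun k => by
    have h := hsm k
    rw [Category.comp_id, (l k).base, hbase] at h
    rw [← cancel_mono (hbase π b), Category.assoc]
    refine h.trans ?_
    rw [hbase]
    have hb : StMod.bmap (AlgSt.ofSch X) b = eqToHom ((StMod.sch_obj_eq π (σ.obj t)).trans (StMod.sch_obj_eq σ t)) := by
      haveI : (AlgSt.ofSch X).p.IsHomLift (𝟙 ((AlgSt.ofSch X).p.obj t)) b := e.hom.isHomLift' t
      have h2 := congrArg Over.Hom.left (IsHomLift.fac' (AlgSt.ofSch X).p (𝟙 ((AlgSt.ofSch X).p.obj t)) b)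
      exact h2.trans (by simp)
    rw [hb]
    simp
  let β := fun k => liftTo (l k).φ (σ.map (m k)) _ (hψ k)
  refine ⟨K, fun k => π.obj (l k).o, fun k => β k ≫ (l k).ψ, ?_⟩
  have hb : ∀ k, StMod.bmap 𝒳 (β k ≫ (l k).ψ) =
      (eqToHom (StMod.sch_obj_eq σ (π.obj (l k).o)) ≫ eqToHom (StMod.sch_obj_eq π (l k).o)) ≫
        StMod.bmap 𝒳 (l k).φ ≫ hbase π b := fun k => by
    rw [StMod.bmap_comp, bmap_liftTo, (l k).base]
  refine ⟨fun y => ?_, fun k => ?_, fun k => ?_⟩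
  · obtain ⟨k, z, hz⟩ := hl.surj (inv (hbase π b) y)
    refine ⟨k, inv (eqToHom (StMod.sch_obj_eq σ (π.obj (l k).o)) ≫ eqToHom (StMod.sch_obj_eq π (l k).o)) z, ?_⟩
    show StMod.bmap 𝒳 (β k ≫ (l k).ψ) _ = y
    rw [hb, ← Scheme.Hom.comp_apply, IsIso.inv_hom_id_assoc, Scheme.Hom.comp_apply, hz, ← Scheme.Hom.comp_apply,
      IsIso.inv_hom_id]
    rfl
  · show Flat (StMod.bmap 𝒳 (β k ≫ (l k).ψ))
    haveI := hl.flat k
    rw [hb]; infer_instance
  · show LocallyOfFinitePresentation (StMod.bmap 𝒳 (β k ≫ (l k).ψ))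
    haveI := hl.lfp k
    rw [hb]; infer_instance

omit [FibCat.IsFibGrpd 𝒳.p] [FibCat.IsFibGrpd (AlgSt.ofSch X).p] in
theorem comap_natural_map {F G : StMod.Mod 𝒳} (ψ : StMod.Mod.comap σ F ⟶ StMod.Mod.comap σ G)
    {t' t : (AlgSt.ofSch X).obj} (φ : t' ⟶ t) :
    (ci σ G t').inv ≫ vert (ψ.app t') ≫ (ci σ F t').hom ≫ totMap F (σ.map φ) =
      totMap G (σ.map φ) ≫ (ci σ G t).inv ≫ vert (ψ.app t) ≫ (ci σ F t).hom := by
  rw [ci_nat, reassoc_of% (totMap_app ψ φ), ← ci_nat'_assoc]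

variable {A : (Over S)ᵒᵖ ⥤ GrpCat.{u}} {χ : A ⟶ GmPsh S} {ι : BandHom 𝒳 A}
  (hπ : IsBandedGerbe (QuotSh.J Scheme.fppfPrecoverage S) π ι)

include e hπ in
theorem existsUnique_split {t' t : (AlgSt.ofSch X).obj} (h : σ.obj t' ⟶ σ.obj t) :
    ∃! a : A.obj (op (𝒳.p.obj (σ.obj t'))), (ι.hom (σ.obj t') a).hom.1 ≫ σ.map (down π σ e h) = h := by
  obtain ⟨α, hα, hh⟩ := exists_kernel π (bmap_down π σ e h).symm (map_down π σ e h).symm
  rw [← (hπ.2 _).2] at hα
  obtain ⟨a, rfl⟩ := hα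
  refine ⟨a, hh, fun a' ha' => (hπ.2 _).1 (Aut.ext (Functor.Fiber.hom_ext ?_))⟩
  exact hom_ext_base (g := σ.map (down π σ e h)) ((bmap_autO _ _).trans (bmap_autO _ _).symm) (ha'.trans hh.symm)

include hπ in
theorem down_ι {t' t : (AlgSt.ofSch X).obj} (a : A.obj (op (𝒳.p.obj (σ.obj t')))) (φ : t' ⟶ t) :
    down π σ e ((ι.hom (σ.obj t') a).hom.1 ≫ σ.map φ) = φ := by
  rw [down, Functor.map_comp, IsBandedGerbe.map_hom_eq_id π hπ, Category.id_comp, secIso_nat,
    Iso.inv_hom_id_assoc]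

/-- Pull a function on the scheme under a value of the section to the scheme under the parameter. -/
def τf (t : (AlgSt.ofSch X).obj) : Γ(StMod.sch 𝒳 (σ.obj t), ⊤) →+* Γ(StMod.sch (AlgSt.ofSch X) t, ⊤) :=
  (eqToHom (StMod.sch_obj_eq σ t).symm).appTop.hom

/-- The scalar of an element of the band, on the parameter. -/
def su (χ : A ⟶ GmPsh S) (t : (AlgSt.ofSch X).obj) (a : A.obj (op (𝒳.p.obj (σ.obj t)))) :
    (Γ(StMod.sch (AlgSt.ofSch X) t, ⊤))ˣ :=
  Units.map (τf σ t).toMonoidHom ((charUnit χ (σ.obj t) a ^ (1 : ℤ))⁻¹)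

theorem su_mul (t : (AlgSt.ofSch X).obj) (a b : A.obj (op (𝒳.p.obj (σ.obj t)))) :
    su σ χ t (a * b) = su σ χ t b * su σ χ t a := by
  unfold su
  rw [← map_mul, charUnit_mul, mul_zpow, mul_inv_rev]

theorem su_one (t : (AlgSt.ofSch X).obj) : su σ χ t (1 : A.obj (op (𝒳.p.obj (σ.obj t)))) = 1 := by
  unfold su
  rw [charUnit_one, one_zpow, inv_one, map_one]

theorem su_nat {t' t : (AlgSt.ofSch X).obj} (φ : t' ⟶ t) (a : A.obj (op (𝒳.p.obj (σ.obj t)))) :
    (StMod.bmap (AlgSt.ofSch X) φ).appTop (su σ χ t a).val =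
      (su σ χ t' (A.map (𝒳.p.map (σ.map φ)).op a)).val := by
  show _ = τf σ t' ((charUnit χ (σ.obj t') (A.map (𝒳.p.map (σ.map φ)).op a) ^ (1 : ℤ))⁻¹).val
  rw [← charUnit_pow_nat]
  have e : StMod.bmap (AlgSt.ofSch X) φ ≫ eqToHom (StMod.sch_obj_eq σ t).symm =
      eqToHom (StMod.sch_obj_eq σ t').symm ≫ StMod.bmap 𝒳 (σ.map φ) := by
    rw [← cancel_epi (eqToHom (StMod.sch_obj_eq σ t')), ← Category.assoc, ← StMod.bmap_map_comm σ φ rfl]
    simp
  have h := congr($(congrArg Scheme.Hom.appTop e) ((charUnit χ (σ.obj t) a ^ (1 : ℤ))⁻¹).val)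
  simp only [Scheme.Hom.comp_appTop] at h
  exact h

include e hπ in
theorem isEquivalence_twisted : ((isTwistedQ 𝒳 ι χ 1).ι ⋙ StMod.comapQ σ).IsEquivalence := by
  have hloc := locImage_section π σ e hπ.1.2
  refine { faithful := ?_, full := ?_, essSurj := ?_ }
  · haveI := faithful_comapQ σ hloc
    infer_instance
  · refine ⟨fun {F G} ψ => ?_⟩
    obtain ⟨a₀, ha₀⟩ := exists_hom_of_comap σ hloc G.obj.property (F := F.obj.obj) ψ.hom fun {t' t} h => by
      obtain ⟨a, ha, -⟩ := existsUnique_split π σ e hπ h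
      let χ₁ := (ci σ G.obj.obj t').inv ≫ vert (ψ.hom.app t') ≫ (ci σ F.obj.obj t').hom
      have hg : χ₁.g = 𝟙 _ := by
        show (ci σ G.obj.obj t').inv.g ≫ 𝟙 _ ≫ (ci σ F.obj.obj t').hom.g = _
        rw [ci_hom_g, ci_inv_g, Category.id_comp, eqToHom_trans, eqToHom_refl]
      let r := ((charUnit χ (σ.obj t') a ^ (1 : ℤ))⁻¹).val
      have hc : χ₁ ≫ sc (tot F.obj.obj (σ.obj t')) r = sc (tot G.obj.obj (σ.obj t')) r ≫ χ₁ := by
        rw [← sc_nat χ₁ r, hg]
        rfl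
      show χ₁ ≫ totMap F.obj.obj h = _
      rw [← ha, totMap_comp, totMap_comp, totMap_twisted F.property, totMap_twisted G.property, reassoc_of% hc,
        Category.assoc]
      simp only [Category.assoc]
      refine congrArg (sc (tot G.obj.obj (σ.obj t')) r ≫ ·) ?_
      exact comap_natural_map σ ψ.hom (down π σ e h)
    exact ⟨ObjectProperty.homMk (ObjectProperty.homMk a₀), InducedCategory.hom_ext ha₀⟩
  · refine ⟨fun N => ?_⟩
    choose aOf haOf haOf' using fun {t' t : (AlgSt.ofSch X).obj} (h : σ.obj t' ⟶ σ.obj t) =>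
      existsUnique_split π σ e hπ h
    let E : ∀ {t' t : (AlgSt.ofSch X).obj}, (σ.obj t' ⟶ σ.obj t) → (tot N.obj t' ⟶ tot N.obj t) :=
      fun {t' t} h => sc (tot N.obj t') (su σ χ t' (aOf h)).val ≫ totMap N.obj (down π σ e h)
    have hE : ∀ {t' t : (AlgSt.ofSch X).obj} (a : A.obj (op (𝒳.p.obj (σ.obj t')))) (φ : t' ⟶ t),
        E ((ι.hom (σ.obj t') a).hom.1 ≫ σ.map φ) = sc (tot N.obj t') (su σ χ t' a).val ≫ totMap N.obj φ :=
      fun {t' t} a φ => by
        have h1 := down_ι π σ e hπ a φ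
        have h2 := haOf' ((ι.hom (σ.obj t') a).hom.1 ≫ σ.map φ) a (by rw [h1])
        show sc (tot N.obj t') (su σ χ t' (aOf _)).val ≫ totMap N.obj _ = _
        rw [h1, ← h2]
    have hι1 : ∀ {t' t : (AlgSt.ofSch X).obj} (φ : t' ⟶ t),
        (ι.hom (σ.obj t') 1).hom.1 ≫ σ.map φ = σ.map φ := fun φ => by
      rw [map_one]
      exact Category.id_comp _
    have hext : ∀ {t' t : (AlgSt.ofSch X).obj} (φ : t' ⟶ t), E (σ.map φ) = totMap N.obj φ := fun {t' t} φ => by
      rw [← hι1 φ, hE, su_one, Units.val_one, sc_one, Category.id_comp]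
    obtain ⟨G, χ', hi, hχg, hχ⟩ := exists_descend' σ hloc N.obj N.property (fun h => E h)
      (fun {t' t} h => by
        show eqToHom _ ≫ 𝟙 _ ≫ StMod.bmap (AlgSt.ofSch X) (down π σ e h) = _
        rw [Category.id_comp, ← StMod.bmap_map_comm σ (down π σ e h) rfl, bmap_down])
      (fun t => by
        rw [← σ.map_id, hext, totMap_id])
      (fun {t'' t' t} h h' => by
        have hh : h ≫ h' = (ι.hom (σ.obj t'') (A.map (𝒳.p.map (σ.map (down π σ e h))).op (aOf h') * aOf h)).hom.1 ≫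
            σ.map (down π σ e h ≫ down π σ e h') := by
          conv_lhs => rw [← haOf h, ← haOf h']
          rw [map_mul, Functor.map_comp]
          show _ = ((ι.hom (σ.obj t'') (aOf h)).hom.1 ≫
            (ι.hom (σ.obj t'') (A.map (𝒳.p.map (σ.map (down π σ e h))).op (aOf h'))).hom.1) ≫ _
          simp only [Category.assoc]
          rw [reassoc_of% (ι.natural (σ.map (down π σ e h)) (aOf h'))]
        refine (congrArg E hh).trans ((hE _ _).trans ?_)
        show _ = (sc _ _ ≫ totMap N.obj (down π σ e h)) ≫ sc _ _ ≫ totMap N.obj (down π σ e h')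
        rw [su_mul, Units.val_mul, sc_mul, ← su_nat σ (down π σ e h), totMap_comp, Category.assoc, Category.assoc]
        congr 1
        exact (sc_nat_assoc (totMap N.obj (down π σ e h)) _ _))
      (fun h => (cart_sc _ _).comp (cart_totMap N.property.1 _)) hext
    have htw : IsTwisted G.obj ι χ 1 := by
      refine (isTwisted_iff_inert_eq _ ι χ 1).2 fun ξ a => inert_eq_of_totMap ξ _ _ ?_
      obtain ⟨K, t, g, hg⟩ := hloc ξ
      refine totMap_twisted_of_cover χ 1 ι G.property.1 ξ a (fun k => σ.obj (t k)) g hg.flat hg.surj fun k => ?_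
      haveI := hi (t k)
      set a' := A.map (𝒳.p.map (g k)).op a with ha'
      have h1 : (ι.hom (σ.obj (t k)) a').hom.1 = (ι.hom (σ.obj (t k)) a').hom.1 ≫ σ.map (𝟙 (t k)) := by
        rw [σ.map_id]; exact (Category.comp_id _).symm
      rw [← cancel_epi (χ' (t k)), ← hχ, h1, hE, totMap_id, Category.comp_id,
        ← sc_nat (χ' (t k)), hχg]
      rfl
    refine ⟨⟨G, htw⟩, ?_⟩
    obtain ⟨i⟩ : Nonempty (StMod.Mod.comap σ G.obj ≅ N.obj) := by
      refine exists_iso_of_arr (fun x => χ' x ≫ (ci σ G.obj x).inv) (fun x => ?_) (fun x => ?_) fun {x' x} φ => ?_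
      · rw [comp_g, hχg, ci_inv_g, eqToHom_trans, eqToHom_refl]
      · haveI := hi x
        exact cart_of_isIso _
      · rw [Category.assoc, ← ci_nat', ← Category.assoc, ← hχ, hext, Category.assoc]
    exact ⟨ObjectProperty.isoMk _ i⟩

end TwDescLib
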