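import Groth.Agent.TwDescLib.Cast
import Groth.Agent.TwDescLib.FinProp

/-!
# Finiteness properties descend along morphisms which are locally surjective on objects
-/

set_option autoImplicit false
set_option linter.all false
set_option backward.isDefEq.respectTransparency false
set_option backward.isDefEq.respectTransparency.types false

noncomputable section

universe u v w v' w'

open CategoryTheory CategoryTheory.Limits AlgebraicGeometry
open KFlatLib (pb)

namespace TwDescLib

theorem DescProp.forall_comap_iff {P : ∀ {X : Scheme.{u}}, X.Modules → Prop} (hP : DescProp P) {S : Scheme.{u}}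
    {𝒳 : BasedCategory.{v', w'} (Over S)} {𝒴 : BasedCategory.{v, w} (Over S)} (π : 𝒳 ⥤ᵇ 𝒴)
    (hf : LocImage (fun x => π.obj x)) (G : StMod.QCoh 𝒴) :
    (∀ η, P (G.obj.obj η)) ↔ ∀ x, P (((StMod.comapQ π).obj G).obj.obj x) := by
  refine ⟨fun h x => (prop_castMod (P := P) _ _).2 (h (π.obj x)), fun h η => ?_⟩
  obtain ⟨K, w, g, hg⟩ := hf η
  refine hP.of_family hg.mem (G.obj.obj η) (G.property.2 η) fun k => ?_
  haveI : IsIso (adj (totMap G.obj (g k))) := cart_totMap G.property.1 (g k)
  exact hP.of_iso (asIso (adj (totMap G.obj (g k)))).symm ((prop_castMod (P := P) _ _).1 (h (w k)))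

end TwDescLib
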