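import Groth.Agent.TwDescLib.Glue

/-!
# Gluing quasi-coherent modules along fpqc families, with arrows
-/

set_option autoImplicit false
set_option linter.all false
set_option backward.isDefEq.respectTransparency false
set_option backward.isDefEq.respectTransparency.types false
set_option maxHeartbeats 800000

noncomputable section

universe u

open CategoryTheory CategoryTheory.Limits AlgebraicGeometry TopologicalSpace Opposite
open KFlatLib (pb puSec)
open QCohDescLib (compIso dObj dHom dMod evHom evI)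

namespace TwDescLib

variable {ι : Type u} {X : Scheme.{u}}

/-- A family of modules on the members of a family, with a relation saying which pairs of arrows are glued. -/
structure GlueSys (A : ι → MObj.{u}) (f : ∀ i, (A i).X ⟶ X) where
  /-- the glued pairs -/
  rel : ∀ (i j : ι) {R : MObj.{u}}, (R ⟶ A i) → (R ⟶ A j) → Prop
  refl : ∀ (i : ι) {R : MObj.{u}} (s : R ⟶ A i), rel i i s s
  trans : ∀ {i j k : ι} {R : MObj.{u}} {s : R ⟶ A i} {t : R ⟶ A j} {r : R ⟶ A k},
    rel i j s t → rel j k t r → rel i k s r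
  comp : ∀ {i j : ι} {R R' : MObj.{u}} (d : R' ⟶ R) {s : R ⟶ A i} {t : R ⟶ A j},
    rel i j s t → rel i j (d ≫ s) (d ≫ t)
  exists_rel : ∀ {i : ι} (j : ι) {R : MObj.{u}} [Coh.IsQCoh R.M] (s : R ⟶ A i), Cart s →
    ∀ (b : R.X ⟶ (A j).X), s.g ≫ f i = b ≫ f j → ∃ t : R ⟶ A j, t.g = b ∧ rel i j s t
  unique : ∀ {i j : ι} {R : MObj.{u}} [Coh.IsQCoh R.M] {s : R ⟶ A i}, Cart s →
    ∀ {t t' : R ⟶ A j}, rel i j s t → rel i j s t' → t.g = t'.g → t = t'

namespace GlueSys

variable {A : ι → MObj.{u}} [hA : ∀ i, Coh.IsQCoh (A i).M] {f : ∀ i, (A i).X ⟶ X} (G : GlueSys A f)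

theorem isQCoh_pb {Y : Scheme.{u}} {Z : Scheme.{u}} (g : Y ⟶ Z) (M : Z.Modules) (h : Coh.IsQCoh M) :
    Coh.IsQCoh (pb g M) := by
  haveI := h
  exact KFlatLib.isQCoh_pullback g M

include G in
theorem exists_u ⦃Y : Scheme.{u}⦄ (q : Y ⟶ X) ⦃i j : ι⦄ (a : Y ⟶ (A i).X) (b : Y ⟶ (A j).X)
    (ha : a ≫ f i = q) (hb : b ≫ f j = q) :
    ∃ u : pb a (A i).M ⟶ pb b (A j).M, G.rel j i (can b (A j).M) (vert u ≫ can a (A i).M) := by
  haveI : Coh.IsQCoh (⟨Y, pb b (A j).M⟩ : MObj).M := isQCoh_pb b _ (hA j)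
  obtain ⟨t, ht, hr⟩ := G.exists_rel i (can b (A j).M) (cart_can _ _) a (hb.trans ha.symm)
  obtain ⟨u, hu⟩ := exists_vert ((cart_can a (A i).M).lift t (𝟙 Y) (by simp [ht])) (Cart.lift_g _ _ _ _)
  exact ⟨u, by rw [hu, Cart.fac]; exact hr⟩

theorem unique_u ⦃Y : Scheme.{u}⦄ ⦃i j : ι⦄ (a : Y ⟶ (A i).X) (b : Y ⟶ (A j).X)
    {u v : pb a (A i).M ⟶ pb b (A j).M} (hu : G.rel j i (can b (A j).M) (vert u ≫ can a (A i).M))
    (hv : G.rel j i (can b (A j).M) (vert v ≫ can a (A i).M)) : u = v := by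
  haveI : Coh.IsQCoh (⟨Y, pb b (A j).M⟩ : MObj).M := isQCoh_pb b _ (hA j)
  exact vert_can_inj a (A i).M (G.unique (cart_can _ _) hu hv (by simp))

/-- The descent datum. -/
def datum : Desc.modPF.{u}.DescentData f where
  obj i := (A i).M
  hom Y q i j a b ha hb := (G.exists_u q a b ha hb).choose
  pullHom_hom Y' Y g q q' hq i j a b ha hb a' b' ha' hb' := by
    refine G.unique_u a' b' ?_ (G.exists_u q' a' b' (by rw [← ha', Category.assoc, ha, hq]) (by rw [← hb', Category.assoc, hb, hq])).choose_spec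
    have h := G.comp (vert (compIso (A j).M g hb').hom ≫ can g (pb b (A j).M)) (G.exists_u q a b ha hb).choose_spec
    rw [Category.assoc, can_comp g hb'] at h
    refine cast (congrArg (G.rel j i (can b' (A j).M)) ?_) h
    simp only [Pseudofunctor.LocallyDiscreteOpToCat.pullHom]
    rw [QCohDescLib.mapComp'_hom_app a g a' ha', QCohDescLib.mapComp'_inv_app b g b' hb']
    generalize (G.exists_u q a b ha hb).choose = u
    show (vert (compIso (A j).M g hb').hom ≫ can g (pb b (A j).M)) ≫ vert u ≫ can a (A i).M =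
      vert ((compIso (A i).M g ha').inv ≫ (Scheme.Modules.pullback g).map u ≫ (compIso (A j).M g hb').hom) ≫
        can a' (A i).M
    simp only [vert_comp, Category.assoc]
    rw [← can_comp' g ha', can_natural_assoc]
  hom_self Y q i a ha := by
    refine G.unique_u a a (G.exists_u q a a ha ha).choose_spec ?_
    erw [vert_id, Category.id_comp]
    exact G.refl i _
  hom_comp Y q i j k a b c ha hb hc := by
    refine G.unique_u a c ?_ (G.exists_u q a c ha hc).choose_spec
    show G.rel k i (can c (A k).M) (vert (_ ≫ _) ≫ can a (A i).M)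
    erw [vert_comp, Category.assoc]
    exact G.trans (G.exists_u q b c hb hc).choose_spec
      (G.comp _ (G.exists_u q a b ha hb).choose_spec)

theorem dHom_rel {Y : Scheme.{u}} {i j : ι} (a : Y ⟶ (A i).X) (b : Y ⟶ (A j).X) (h : a ≫ f i = b ≫ f j) :
    G.rel j i (can b (A j).M) (vert (dHom G.datum a b h) ≫ can a (A i).M) :=
  (G.exists_u (a ≫ f i) a b rfl h.symm).choose_spec

include G in
theorem exists_glued (hf : Presieve.ofArrows (fun i => (A i).X) f ∈ Scheme.fpqcPrecoverage X) :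
    ∃ (Q : X.Modules) (e : ∀ i, A i ⟶ ⟨X, Q⟩), Coh.IsQCoh Q ∧ (∀ i, (e i).g = f i) ∧ (∀ i, Cart (e i)) ∧
      ∀ (i j : ι) (R : MObj.{u}) (s : R ⟶ A i) (t : R ⟶ A j), Coh.IsQCoh R.M → Cart s →
        s.g ≫ f i = t.g ≫ f j → G.rel i j s t → s ≫ e i = t ≫ e j := by
  haveI : ∀ i, Coh.IsQCoh (dObj G.datum i) := hA
  let e : ∀ i, A i ⟶ ⟨X, dMod G.datum⟩ := fun i => ⟨f i, evHom G.datum i⟩
  refine ⟨dMod G.datum, e, QCohDescLib.isQCoh_dMod G.datum hf, fun i => rfl,
    fun i => QCohDescLib.isIso_evI G.datum hf i, ?_⟩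
  intro i j R s t hR hs hb hr
  haveI := hR
  have he : ∀ k, e k = vert (evI G.datum k) ≫ can (f k) (dMod G.datum) := fun k => (vert_adj_can (e k)).symm
  -- the canonical pair
  let u := dHom G.datum t.g s.g hb.symm
  have h1 : can s.g (A i).M ≫ e i = (vert u ≫ can t.g (A j).M) ≫ e j := by
    have key := congrArg (fun z => vert z ≫ can t.g _ ≫ can (f j) (dMod G.datum))
      (QCohDescLib.evI_comm G.datum t.g s.g (t.g ≫ f j) rfl hb)
    beta_reduce at key
    rw [vert_comp, vert_comp, vert_comp, Category.assoc, Category.assoc, Category.assoc, can_natural_assoc,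
      can_comp t.g (rfl : t.g ≫ f j = _), ← can_comp' s.g hb, can_natural_assoc] at key
    rw [he, he, Category.assoc]
    exact key.symm
  have hs' : s = vert (adj s) ≫ can s.g (A i).M := (vert_adj_can s).symm
  have h2 := G.comp (vert (adj s)) (G.dHom_rel t.g s.g hb.symm)
  rw [← hs'] at h2
  have h3 : t = vert (adj s) ≫ vert u ≫ can t.g (A j).M := G.unique hs hr h2 (by simp)
  conv_lhs => rw [hs']
  rw [h3, Category.assoc, h1, Category.assoc, Category.assoc, Category.assoc]

end GlueSys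

end TwDescLib
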