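import Groth.Agent.TwDescLib.Extend

/-!
# Quasi-coherent modules are determined on a locally surjective family of objects
-/

set_option autoImplicit false
set_option linter.all false
set_option backward.isDefEq.respectTransparency false
set_option backward.isDefEq.respectTransparency.types false
set_option maxHeartbeats 800000

noncomputable section

universe u v w v' w' t

open CategoryTheory CategoryTheory.Limits AlgebraicGeometry TopologicalSpace Opposite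
open KFlatLib (pb)

namespace TwDescLib

theorem m_congr {A B : MObj.{u}} {a b : A ⟶ B} (h : a = b) :
    a.m ≫ (Scheme.Modules.pushforwardCongr (congrArg MHom.g h)).hom.app A.M = b.m := by
  subst h
  rw [StMod.pushforwardCongr_hom_app_self, Category.comp_id]

theorem app_congr {A B : MObj.{u}} {a b : A ⟶ B} (h : a = b) (U : B.X.Opens) (s : Γ(B.M, U)) :
    A.M.presheaf.map (eqToHom (show b.g ⁻¹ᵁ U = a.g ⁻¹ᵁ U by rw [h])).op (a.m.app U s) = b.m.app U s := by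
  subst h
  exact congr($(A.M.presheaf.map_id _) _)

section

variable {S : Scheme.{u}} {𝒴 : BasedCategory.{v, w} (Over S)}

/-- A module from arrows. -/
def modOfArr (Q : ∀ η : 𝒴.obj, (StMod.sch 𝒴 η).Modules)
    (arr : ∀ {η' η : 𝒴.obj} (φ : η' ⟶ η), (⟨StMod.sch 𝒴 η', Q η'⟩ : MObj.{u}) ⟶ ⟨StMod.sch 𝒴 η, Q η⟩)
    (hg : ∀ {η' η : 𝒴.obj} (φ : η' ⟶ η), (arr φ).g = StMod.bmap 𝒴 φ)
    (hid : ∀ η, arr (𝟙 η) = 𝟙 _)
    (hcomp : ∀ {η'' η' η : 𝒴.obj} (ψ : η'' ⟶ η') (φ : η' ⟶ η), arr (ψ ≫ φ) = arr ψ ≫ arr φ) :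
    StMod.Mod 𝒴 where
  obj := Q
  map {η' η} φ g e := (arr φ).m ≫ (Scheme.Modules.pushforwardCongr ((hg φ).trans e)).hom.app (Q η')
  map_id η := by
    have h : (arr (𝟙 η)).m ≫ (Scheme.Modules.pushforwardCongr _).hom.app (Q η) =
        (Scheme.Modules.pushforwardId (StMod.sch 𝒴 η)).inv.app (Q η) := m_congr (hid η)
    rw [h, Iso.inv_hom_id_app]
    rfl
  map_comp {η'' η' η} ψ φ h g hh hgg := by
    obtain rfl : (arr ψ).g = h := (hg ψ).trans hh
    obtain rfl : (arr φ).g = g := (hg φ).trans hgg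
    rw [StMod.pushforwardCongr_hom_app_self, StMod.pushforwardCongr_hom_app_self, Category.comp_id,
      Category.comp_id]
    exact m_congr (hcomp ψ φ)

theorem totMap_modOfArr (Q : ∀ η : 𝒴.obj, (StMod.sch 𝒴 η).Modules)
    (arr : ∀ {η' η : 𝒴.obj} (φ : η' ⟶ η), (⟨StMod.sch 𝒴 η', Q η'⟩ : MObj.{u}) ⟶ ⟨StMod.sch 𝒴 η, Q η⟩)
    (hg : ∀ {η' η : 𝒴.obj} (φ : η' ⟶ η), (arr φ).g = StMod.bmap 𝒴 φ)
    (hid : ∀ η, arr (𝟙 η) = 𝟙 _)
    (hcomp : ∀ {η'' η' η : 𝒴.obj} (ψ : η'' ⟶ η') (φ : η' ⟶ η), arr (ψ ≫ φ) = arr ψ ≫ arr φ)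
    {η' η : 𝒴.obj} (φ : η' ⟶ η) : totMap (modOfArr Q arr hg hid hcomp) φ = arr φ :=
  (hom_ext' (hg φ) rfl).symm

/-- A morphism of modules from vertical arrows. -/
def homOfArr {F G : StMod.Mod 𝒴} (u : ∀ η, F.obj η ⟶ G.obj η)
    (h : ∀ {η' η : 𝒴.obj} (φ : η' ⟶ η), vert (u η') ≫ totMap F φ = totMap G φ ≫ vert (u η)) : F ⟶ G where
  app := u
  comm {η' η} φ g hg := by
    subst hg
    refine Scheme.Modules.hom_ext _ _ fun U => AddCommGrpCat.ext fun s => ?_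
    refine Eq.trans ?_ (app_congr (h φ) U s)
    exact (congr($((G.obj η').presheaf.map_id _) _)).symm

theorem exists_hom_of_arr {F G : StMod.Mod 𝒴} (χ : ∀ η, tot G η ⟶ tot F η) (hg : ∀ η, (χ η).g = 𝟙 _)
    (h : ∀ {η' η : 𝒴.obj} (φ : η' ⟶ η), χ η' ≫ totMap F φ = totMap G φ ≫ χ η) :
    ∃ u : F ⟶ G, ∀ η, vert (u.app η) = χ η := by
  choose u hu using fun η => exists_vert (χ η) (hg η)
  exact ⟨homOfArr u fun φ => by rw [hu, hu, h], hu⟩

theorem exists_iso_of_arr {F G : StMod.Mod 𝒴} (χ : ∀ η, tot G η ⟶ tot F η) (hg : ∀ η, (χ η).g = 𝟙 _)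
    (hc : ∀ η, Cart (χ η))
    (h : ∀ {η' η : 𝒴.obj} (φ : η' ⟶ η), χ η' ≫ totMap F φ = totMap G φ ≫ χ η) :
    Nonempty (F ≅ G) := by
  obtain ⟨u, hu⟩ := exists_hom_of_arr χ hg h
  have hi : ∀ η, IsIso (u.app η) := fun η => by
    have hcv : Cart (vert (u.app η)) := (hu η).symm ▸ hc η
    let l := hcv.lift (𝟙 _) (𝟙 _) (by simp)
    obtain ⟨v, hv⟩ := exists_vert l (Cart.lift_g _ _ _ _)
    have h1 : vert v ≫ vert (u.app η) = 𝟙 _ := by rw [hv]; exact Cart.fac _ _ _ _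
    refine ⟨v, vert_injective ?_, vert_injective ?_⟩
    · rw [vert_comp, h1, vert_id]
    · rw [vert_comp, vert_id]
      refine hcv.cancel (by simp) ?_
      rw [Category.assoc, h1, Category.comp_id, Category.id_comp]
  exact ⟨StMod.Mod.isoMk (fun η => asIso (u.app η)) fun _ _ φ _ hg => u.comm φ hg⟩

variable {W : Type t} {f : W → 𝒴.obj}

theorem totMap_comap_incl (F : StMod.Mod 𝒴) {w' w : W} (l : f w' ⟶ f w) :
    mA (StMod.Mod.comap (indIncl f) F) l = totMap F l := by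
  refine congrArg (MHom.mk _) ?_
  rw [StMod.Mod.comap_map]
  exact StMod.castMap_rfl_self _ _

/-- The comparison maps as a family on pieces. -/
def famOf (F : StMod.Mod 𝒴) (η : 𝒴.obj) :
    PieceFam (StMod.Mod.comap (indIncl f) F) (tot F η) (𝟙 (StMod.sch 𝒴 η)) (𝟙 (StMod.sch 𝒴 η)) where
  app p := totMap F p.γ
  app_g p := by
    rw [totMap_g, ← p.e, Category.comp_id]
  nat p' p l h1 h2 := (congrArg (· ≫ totMap F p.γ) (totMap_comap_incl F l)).trans (by rw [← totMap_comp, h1])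

variable [FibCat.IsFibGrpd 𝒴.p]

theorem exists_comap_iso (hf : LocImage f) (M : StMod.Mod (ind f)) (hM : StMod.isQCoh (ind f) M) :
    ∃ G : StMod.QCoh 𝒴, Nonempty (StMod.Mod.comap (indIncl f) G.obj ≅ M) := by
  obtain ⟨hc, hq⟩ := hM
  choose Q e hQ heg hec hen using exists_value hf hc hq
  let R : 𝒴.obj → MObj.{u} := fun η => ⟨StMod.sch 𝒴 η, Q η⟩
  haveI : ∀ η, Coh.IsQCoh (R η).M := hQ
  let U : ∀ η, PieceFam M (R η) (𝟙 (StMod.sch 𝒴 η)) (𝟙 _) := fun η =>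
    { app := fun p => e η p.w p.γ
      app_g := fun p => by rw [heg, ← p.e, Category.comp_id]
      nat := fun p' p l h1 _ => by rw [hen, h1] }
  let V : ∀ {η' η : 𝒴.obj} (φ : η' ⟶ η), PieceFam M (R η) (𝟙 (StMod.sch 𝒴 η')) (StMod.bmap 𝒴 φ) := fun {η' η} φ =>
    { app := fun p => e η p.w (p.γ ≫ φ)
      app_g := fun p => by rw [heg, StMod.bmap_comp, ← p.e, Category.comp_id]
      nat := fun p' p l h1 _ => by rw [hen, ← Category.assoc, h1] }
  choose A hAg hA using fun (η' η : 𝒴.obj) (φ : η' ⟶ η) => (U η').exists_desc hf hc (fun p => hec _ _ _) (V φ)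
  let pc : ∀ η (w : W) (γ : f w ⟶ η), Piece f η (𝟙 (StMod.sch 𝒴 η)) := fun η w γ =>
    ⟨w, γ, StMod.bmap 𝒴 γ, Category.comp_id _⟩
  have hA' : ∀ {η' η : 𝒴.obj} (φ : η' ⟶ η) (w : W) (γ : f w ⟶ η'), e η' w γ ≫ A η' η φ = e η w (γ ≫ φ) :=
    fun φ w γ => hA _ _ φ (pc _ w γ)
  have hid : ∀ η, A η η (𝟙 η) = 𝟙 (R η) := fun η =>
    (U η).desc_unique hf (fun p => hec _ _ _) (by rw [hAg, StMod.bmap_id]; rfl) fun p => by
      show e η p.w p.γ ≫ A η η (𝟙 η) = _
      rw [hA', Category.comp_id, Category.comp_id]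

  have hcomp : ∀ {η'' η' η : 𝒴.obj} (ψ : η'' ⟶ η') (φ : η' ⟶ η), A _ _ (ψ ≫ φ) = A _ _ ψ ≫ A _ _ φ :=
    fun {η'' η' η} ψ φ => (U η'').desc_unique hf (fun p => hec _ _ _)
      (by rw [comp_g, hAg, hAg, hAg, StMod.bmap_comp]) fun p => by
        show e η'' p.w p.γ ≫ A _ _ (ψ ≫ φ) = e η'' p.w p.γ ≫ _
        rw [← Category.assoc, hA', hA', hA', Category.assoc]
  let G := modOfArr Q (fun {η' η} φ => A η' η φ) (fun φ => hAg _ _ φ) hid hcomp
  have hG : ∀ {η' η : 𝒴.obj} (φ : η' ⟶ η), totMap G φ = A η' η φ := fun φ =>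
    totMap_modOfArr Q _ _ hid hcomp φ
  have hGc : G.IsCartesian := fun η' η φ g hg => by
    subst hg
    have : Cart (totMap G φ) := by
      rw [hG]
      exact (U η').cart_desc hf (fun p => hec _ _ _) _ fun p => by
        show Cart (e η' p.w p.γ ≫ A η' η φ)
        rw [hA']; exact hec _ _ _
    exact this
  refine ⟨⟨G, hGc, hQ⟩, exists_iso_of_arr (fun w : W => e (f w) w (𝟙 _))
    (fun w => by rw [heg, StMod.bmap_id]; rfl) (fun w => hec _ _ _) fun {w' w} l => ?_⟩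
  obtain ⟨l⟩ := l
  show e (f w') w' (𝟙 _) ≫ mA (StMod.Mod.comap (indIncl f) G) l = mA M l ≫ e (f w) w (𝟙 _)
  rw [totMap_comap_incl, hen, Category.comp_id]
  refine (congrArg (e (f w') w' (𝟙 _) ≫ ·) (hG l)).trans ?_
  rw [hA', Category.id_comp]

theorem comap_incl_hom_injective (hf : LocImage f) {F G : StMod.Mod 𝒴} (hG : G.IsCartesian) {a b : F ⟶ G}
    (h : ∀ w, a.app (f w) = b.app (f w)) : a = b := by
  refine StMod.Mod.hom_ext fun η => vert_injective ?_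
  refine (famOf (f := f) G η).desc_unique hf (fun p => cart_totMap hG _) rfl fun p => ?_
  show totMap G p.γ ≫ vert (a.app η) = totMap G p.γ ≫ vert (b.app η)
  rw [← totMap_app, ← totMap_app, h]

theorem exists_hom_of_incl (hf : LocImage f) {F G : StMod.Mod 𝒴} (hG : StMod.isQCoh 𝒴 G)
    (ψ : StMod.Mod.comap (indIncl f) F ⟶ StMod.Mod.comap (indIncl f) G) :
    ∃ a : F ⟶ G, ∀ w, a.app (f w) = ψ.app w := by
  obtain ⟨hGc, hGq⟩ := hG
  have hψ : ∀ {w' w : W} (l : f w' ⟶ f w), vert (ψ.app w') ≫ totMap F l = totMap G l ≫ vert (ψ.app w) :=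
    fun {w' w} l => by
      have h : vert (ψ.app w') ≫ mA (StMod.Mod.comap (indIncl f) F) l =
          mA (StMod.Mod.comap (indIncl f) G) l ≫ vert (ψ.app w) := totMap_app ψ (indHom l)
      rwa [totMap_comap_incl, totMap_comap_incl] at h
  let V : ∀ η, PieceFam (StMod.Mod.comap (indIncl f) G) (tot F η) (𝟙 (StMod.sch 𝒴 η)) (𝟙 _) := fun η =>
    { app := fun p => vert (ψ.app p.w) ≫ totMap F p.γ
      app_g := fun p => by
        rw [comp_g, vert_g, totMap_g, ← p.e, Category.comp_id, Category.id_comp]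

      nat := fun p' p l h1 _ =>
        (congrArg (· ≫ vert (ψ.app p.w) ≫ totMap F p.γ) (totMap_comap_incl G l)).trans (by
          rw [← Category.assoc, ← hψ, Category.assoc, ← totMap_comp, h1]) }
  haveI : ∀ η, Coh.IsQCoh (tot G η).M := hGq
  choose χ hχg hχ using fun η => (famOf (f := f) G η).exists_desc hf (StMod.isCartesian_comap hGc)
    (fun p => cart_totMap hGc _) (V η)
  let pc : ∀ η (w : W) (γ : f w ⟶ η), Piece f η (𝟙 (StMod.sch 𝒴 η)) := fun η w γ =>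
    ⟨w, γ, StMod.bmap 𝒴 γ, Category.comp_id _⟩
  have hχ' : ∀ η (w : W) (γ : f w ⟶ η), totMap G γ ≫ χ η = vert (ψ.app w) ≫ totMap F γ :=
    fun η w γ => hχ η (pc η w γ)
  obtain ⟨a, ha⟩ := exists_hom_of_arr χ hχg fun {η' η} φ => by
    refine (famOf (f := f) G η').desc_unique hf (fun p => cart_totMap hGc _) ?_ fun p => ?_
    · rw [comp_g, comp_g, hχg, hχg, totMap_g, totMap_g, Category.id_comp, Category.comp_id]
    · show totMap G p.γ ≫ χ η' ≫ totMap F φ = totMap G p.γ ≫ totMap G φ ≫ χ η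
      rw [← Category.assoc, hχ' η' p.w p.γ, ← Category.assoc, ← totMap_comp, hχ' η p.w, Category.assoc, totMap_comp]
  refine ⟨a, fun w => vert_injective ?_⟩
  rw [ha]
  have h := hχ' (f w) w (𝟙 _)
  refine ((Category.id_comp _).symm.trans ((congrArg (· ≫ χ (f w)) (totMap_id G (f w)).symm).trans ?_))
  refine h.trans ((congrArg (vert (ψ.app w) ≫ ·) (totMap_id F (f w))).trans (Category.comp_id _))

theorem isEquivalence_comapQ_incl (hf : LocImage f) : (StMod.comapQ (indIncl f)).IsEquivalence where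
  faithful := ⟨fun {F G a b} h => InducedCategory.hom_ext (comap_incl_hom_injective hf G.property.1
    fun w => congrArg (fun t => StMod.Mod.Hom.app t.hom w) h)⟩
  full := ⟨fun {F G} ψ => by
    obtain ⟨a, ha⟩ := exists_hom_of_incl hf G.property ψ.hom
    exact ⟨ObjectProperty.homMk a, InducedCategory.hom_ext (StMod.Mod.hom_ext ha)⟩⟩
  essSurj := ⟨fun M => by
    obtain ⟨G, ⟨e⟩⟩ := exists_comap_iso hf M.obj M.property
    exact ⟨G, ⟨ObjectProperty.isoMk _ e⟩⟩⟩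

end

end TwDescLib
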