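import Groth.Agent.TwDescLib.Local
import Groth.Agent.TwDescLib.Eff

/-!
# Values on all objects of a module given on local sections
-/

set_option autoImplicit false
set_option linter.all false
set_option backward.isDefEq.respectTransparency false
set_option backward.isDefEq.respectTransparency.types false
set_option maxHeartbeats 800000

noncomputable section

universe u v w v' w' t

open CategoryTheory CategoryTheory.Limits AlgebraicGeometry
open KFlatLib (pb)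

namespace TwDescLib

variable {S : Scheme.{u}} {𝒴 : BasedCategory.{v, w} (Over S)} {W : Type t} {f : W → 𝒴.obj}

/-- Two arrows into the values at two local sections are glued. -/
def Glued (M : StMod.Mod (ind f)) {η : 𝒴.obj} {a b : W} (γa : f a ⟶ η) (γb : f b ⟶ η) {R : MObj.{u}}
    (s : R ⟶ wTot M a) (t : R ⟶ wTot M b) : Prop :=
  s.g ≫ StMod.bmap 𝒴 γa = t.g ≫ StMod.bmap 𝒴 γb ∧
    ∀ (w : W) (α : f w ⟶ f a) (β : f w ⟶ f b) (r : wTot M w ⟶ R), α ≫ γa = β ≫ γb →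
      StMod.bmap 𝒴 α = r.g ≫ s.g → StMod.bmap 𝒴 β = r.g ≫ t.g → (r ≫ s = mA M α ↔ r ≫ t = mA M β)

variable [FibCat.IsFibGrpd 𝒴.p] {M : StMod.Mod (ind f)} {η : 𝒴.obj} {a b c : W} {R : MObj.{u}}

theorem Glued.refl (γa : f a ⟶ η) (s : R ⟶ wTot M a) : Glued M γa γa s s :=
  ⟨rfl, fun w α β r h hα hβ => by rw [hom_ext_base (hα.trans hβ.symm) h]⟩

theorem Glued.symm {γa : f a ⟶ η} {γb : f b ⟶ η} {s : R ⟶ wTot M a} {t : R ⟶ wTot M b}
    (h : Glued M γa γb s t) : Glued M γb γa t s :=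
  ⟨h.1.symm, fun w α β r e hα hβ => (h.2 w β α r e.symm hβ hα).symm⟩

theorem Glued.trans {γa : f a ⟶ η} {γb : f b ⟶ η} {γc : f c ⟶ η} {s : R ⟶ wTot M a} {t : R ⟶ wTot M b}
    {r : R ⟶ wTot M c} (h : Glued M γa γb s t) (h' : Glued M γb γc t r) : Glued M γa γc s r := by
  refine ⟨h.1.trans h'.1, fun w α β r' e hα hβ => ?_⟩
  have hb : (r'.g ≫ t.g) ≫ StMod.bmap 𝒴 γb = StMod.bmap 𝒴 (α ≫ γa) := by
    rw [Category.assoc, ← h.1, StMod.bmap_comp, hα, Category.assoc]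
  exact (h.2 w α (liftTo γb (α ≫ γa) _ hb) r' (liftTo_fac _ _ _ _).symm hα (bmap_liftTo _ _ _ _)).trans
    (h'.2 w (liftTo γb (α ≫ γa) _ hb) β r' (by rw [liftTo_fac, e]) (bmap_liftTo _ _ _ _) hβ)

theorem Glued.comp {γa : f a ⟶ η} {γb : f b ⟶ η} {s : R ⟶ wTot M a} {t : R ⟶ wTot M b}
    (h : Glued M γa γb s t) {R' : MObj.{u}} (d : R' ⟶ R) : Glued M γa γb (d ≫ s) (d ≫ t) := by
  refine ⟨by rw [comp_g, comp_g, Category.assoc, h.1, Category.assoc], fun w α β r e hα hβ => ?_⟩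
  rw [← Category.assoc, ← Category.assoc]
  exact h.2 w α β (r ≫ d) e (by rw [hα, comp_g, comp_g, Category.assoc])
    (by rw [hβ, comp_g, comp_g, Category.assoc])

theorem Glued.comp_mA (hM : M.IsCartesian) {a' : W} {l : f a' ⟶ f a} {γa : f a ⟶ η} {γb : f b ⟶ η}
    {s : R ⟶ wTot M a'} {t : R ⟶ wTot M b} (h : Glued M (l ≫ γa) γb s t) : Glued M γa γb (s ≫ mA M l) t := by
  refine ⟨by rw [comp_g, mA_g, Category.assoc, ← StMod.bmap_comp, h.1], fun w α β r e hα hβ => ?_⟩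
  let α' := liftTo l α (r.g ≫ s.g) (by rw [hα, comp_g, mA_g, Category.assoc])
  refine Iff.trans ?_ (h.2 w α' β r (by rw [liftTo_fac_assoc, e]) (bmap_liftTo _ _ _ _) hβ)
  constructor
  · intro h'
    refine (cart_mA hM l).cancel (by rw [mA_g, bmap_liftTo, comp_g]) ?_
    rw [Category.assoc, h', ← mA_comp, liftTo_fac]
  · intro h'
    rw [← Category.assoc, h', ← mA_comp, liftTo_fac]

/-- Above a cartesian arrow, the pieces. -/
def piecesOf (hM : M.IsCartesian) (γa : f a ⟶ η) (s : R ⟶ wTot M a) (hs : Cart s) :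
    PieceFam M R (s.g ≫ StMod.bmap 𝒴 γa) (𝟙 R.X) where
  app p := hs.lift (mA M (liftTo γa p.γ (p.h ≫ s.g) (by rw [Category.assoc, p.e]))) p.h
    (by rw [mA_g, bmap_liftTo])
  app_g p := by rw [Cart.lift_g, Category.comp_id]
  nat p' p l h1 h2 := by
    refine hs.cancel (by rw [comp_g, Cart.lift_g, Cart.lift_g, mA_g, h2]) ?_
    rw [Category.assoc, Cart.fac, Cart.fac, ← mA_comp]
    congr 1
    refine hom_ext_base (g := γa) ?_ (by rw [Category.assoc, liftTo_fac, h1, liftTo_fac])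
    rw [StMod.bmap_comp, bmap_liftTo, bmap_liftTo, reassoc_of% h2]

theorem piecesOf_fac (hM : M.IsCartesian) (γa : f a ⟶ η) (s : R ⟶ wTot M a) (hs : Cart s)
    (p : Piece f η (s.g ≫ StMod.bmap 𝒴 γa)) :
    (piecesOf hM γa s hs).app p ≫ s = mA M (liftTo γa p.γ (p.h ≫ s.g) (by rw [Category.assoc, p.e])) :=
  hs.fac _ _ (by rw [mA_g, bmap_liftTo])

theorem cart_piecesOf (hM : M.IsCartesian) (γa : f a ⟶ η) (s : R ⟶ wTot M a) (hs : Cart s)
    (p : Piece f η (s.g ≫ StMod.bmap 𝒴 γa)) : Cart ((piecesOf hM γa s hs).app p) :=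
  Cart.of_comp (by rw [piecesOf_fac]; exact cart_mA hM _) hs

theorem exists_glued_arrow (hf : LocImage f) (hM : M.IsCartesian) [Coh.IsQCoh R.M] (γa : f a ⟶ η)
    (γb : f b ⟶ η) (s : R ⟶ wTot M a) (hs : Cart s) (β₀ : R.X ⟶ StMod.sch 𝒴 (f b))
    (h : s.g ≫ StMod.bmap 𝒴 γa = β₀ ≫ StMod.bmap 𝒴 γb) :
    ∃ t : R ⟶ wTot M b, Cart t ∧ t.g = β₀ ∧ Glued M γa γb s t := by
  let u := piecesOf hM γa s hs
  have hu := cart_piecesOf hM γa s hs
  let v : PieceFam M (wTot M b) (s.g ≫ StMod.bmap 𝒴 γa) β₀ :=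
    { app := fun p => mA M (liftTo γb p.γ (p.h ≫ β₀) (by rw [Category.assoc, ← h, p.e]))
      app_g := fun p => by rw [mA_g, bmap_liftTo]
      nat := fun p' p l h1 h2 => by
        rw [← mA_comp]
        congr 1
        refine hom_ext_base (g := γb) ?_ (by rw [Category.assoc, liftTo_fac, h1, liftTo_fac])
        rw [StMod.bmap_comp, bmap_liftTo, bmap_liftTo, reassoc_of% h2] }
  obtain ⟨t, ht, htv⟩ := u.exists_desc hf hM hu v
  have hct : Cart t := u.cart_desc hf hu t fun p => by rw [htv]; exact cart_mA hM _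
  refine ⟨t, hct, ht, by rw [h, ht], fun w α β r e hα hβ => ?_⟩
  let p : Piece f η (s.g ≫ StMod.bmap 𝒴 γa) := ⟨w, α ≫ γa, r.g, by rw [StMod.bmap_comp, hα, Category.assoc]⟩
  have eα : liftTo γa p.γ (p.h ≫ s.g) (by rw [Category.assoc, p.e]) = α :=
    hom_ext_base (g := γa) ((bmap_liftTo _ _ _ _).trans hα.symm) (liftTo_fac _ _ _ _)
  have eβ : liftTo γb p.γ (p.h ≫ β₀) (by rw [Category.assoc, ← h, p.e]) = β :=
    hom_ext_base (g := γb) ((bmap_liftTo _ _ _ _).trans (by rw [hβ, ht]))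
      ((liftTo_fac _ _ _ _).trans e)
  have h1 : u.app p ≫ s = mA M α := (piecesOf_fac hM γa s hs p).trans (congrArg (mA M) eα)
  have h2 : u.app p ≫ t = mA M β := (htv p).trans (congrArg (mA M) eβ)
  constructor
  · intro h'
    rw [hs.cancel ((u.app_g p).trans (Category.comp_id _)).symm (h'.trans h1.symm), h2]
  · intro h'
    rw [hct.cancel ((u.app_g p).trans (Category.comp_id _)).symm (h'.trans h2.symm), h1]

theorem Glued.unique (hf : LocImage f) (hM : M.IsCartesian) [Coh.IsQCoh R.M] {γa : f a ⟶ η} {γb : f b ⟶ η}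
    {s : R ⟶ wTot M a} (hs : Cart s) {t t' : R ⟶ wTot M b} (h : Glued M γa γb s t) (h' : Glued M γa γb s t')
    (hg : t.g = t'.g) : t = t' := by
  let u := piecesOf hM γa s hs
  refine u.desc_unique hf (cart_piecesOf hM γa s hs) hg fun p => ?_
  have hpe : (p.h ≫ t.g) ≫ StMod.bmap 𝒴 γb = StMod.bmap 𝒴 p.γ := by rw [Category.assoc, ← h.1, p.e]
  let β := liftTo γb p.γ _ hpe
  have hu1 : (u.app p).g = p.h := (u.app_g p).trans (Category.comp_id _)
  let α := liftTo γa p.γ (p.h ≫ s.g) (by rw [Category.assoc, p.e])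
  have h0 : u.app p ≫ s = mA M α := piecesOf_fac hM γa s hs p
  have e : α ≫ γa = β ≫ γb := (liftTo_fac _ _ _ _).trans (liftTo_fac _ _ _ _).symm
  rw [(h.2 p.w α β (u.app p) e (by rw [hu1, bmap_liftTo]) (by rw [hu1, bmap_liftTo])).1 h0,
    (h'.2 p.w α β (u.app p) e (by rw [hu1, bmap_liftTo]) (by rw [hu1, bmap_liftTo, hg])).1 h0]

theorem exists_value (hf : LocImage f) (hM : M.IsCartesian) (hq : M.IsLocQCoh) (η : 𝒴.obj) :
    ∃ (Q : (StMod.sch 𝒴 η).Modules) (e : ∀ w (γ : f w ⟶ η), wTot M w ⟶ ⟨StMod.sch 𝒴 η, Q⟩), Coh.IsQCoh Q ∧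
      (∀ w γ, (e w γ).g = StMod.bmap 𝒴 γ) ∧ (∀ w γ, Cart (e w γ)) ∧
      ∀ w' w (l : f w' ⟶ f w) (γ : f w ⟶ η), mA M l ≫ e w γ = e w' (l ≫ γ) := by
  obtain ⟨K, w, g, hg⟩ := hf η
  haveI : ∀ k, Coh.IsQCoh (wTot M (w k)).M := fun k => hq (w k)
  let G : GlueSys (fun k => wTot M (w k)) (fun k => StMod.bmap 𝒴 (g k)) :=
    { rel := fun i j _ s t => Glued M (g i) (g j) s t
      refl := fun i _ s => Glued.refl _ _
      trans := fun h h' => h.trans h'
      comp := fun d _ _ h => h.comp d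
      exists_rel := fun {i} j _ _ s hs b hb => by
        obtain ⟨t, -, h1, h2⟩ := exists_glued_arrow hf hM (g i) (g j) s hs b hb
        exact ⟨t, h1, h2⟩
      unique := fun hs _ _ h h' e => Glued.unique hf hM hs h h' e }
  obtain ⟨Q, e₀, hQ, he₀g, he₀c, he₀⟩ := G.exists_glued hg.mem
  have key : ∀ (w₀ : W) (γ : f w₀ ⟶ η), ∃ e : wTot M w₀ ⟶ ⟨StMod.sch 𝒴 η, Q⟩,
      e.g = StMod.bmap 𝒴 γ ∧ Cart e ∧ ∀ k (R : MObj.{u}) (s : R ⟶ wTot M w₀) (t : R ⟶ wTot M (w k)),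
        Coh.IsQCoh R.M → Cart s → Glued M γ (g k) s t → s ≫ e = t ≫ e₀ k := by
    intro w₀ γ
    haveI : Coh.IsQCoh (wTot M w₀).M := hq w₀
    have hp := hg.pullback (StMod.bmap 𝒴 γ)
    let p₁ := fun k => pullback.fst (StMod.bmap 𝒴 γ) (StMod.bmap 𝒴 (g k))
    let Z : K → MObj.{u} := fun k => ⟨pullback (StMod.bmap 𝒴 γ) (StMod.bmap 𝒴 (g k)), pb (p₁ k) (wTot M w₀).M⟩
    let sk : ∀ k, Z k ⟶ wTot M w₀ := fun k => can (p₁ k) _
    have hsk : ∀ k, Cart (sk k) := fun k => cart_can _ _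
    haveI : ∀ k, Coh.IsQCoh (Z k).M := fun k => GlueSys.isQCoh_pb _ _ (hq w₀)
    choose tk htkc htkg htk using fun k => exists_glued_arrow hf hM γ (g k) (sk k) (hsk k)
      (pullback.snd (StMod.bmap 𝒴 γ) (StMod.bmap 𝒴 (g k))) pullback.condition
    obtain ⟨e, heg, he⟩ := exists_glue (StMod.bmap 𝒴 γ) sk hsk hp.mem (fun k => tk k ≫ e₀ k)
      (fun k => by rw [comp_g, htkg, he₀g]; exact pullback.condition.symm) fun C i j s t hC hs ht h => by
        haveI := hC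
        have h2 := ((htk j).comp t)
        rw [← h] at h2
        have h3 := ((htk i).comp s).symm.trans h2
        rw [← Category.assoc, ← Category.assoc]
        exact he₀ i j C _ _ hC (hs.comp (htkc i)) h3.1 h3
    have hcov : IsFlatCover sk := ⟨hsk, hp.flat, hp.surj⟩
    refine ⟨e, heg, cart_of_cover hcov e fun k => by rw [he]; exact (htkc k).comp (he₀c k), ?_⟩
    intro k R s t hR hs hst
    haveI := hR
    let l := (hsk k).lift s (pullback.lift s.g t.g hst.1) (by rw [can_g]; exact pullback.lift_fst _ _ _)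
    have hl : l ≫ sk k = s := Cart.fac _ _ _ _
    have h2 := (htk k).comp l
    rw [hl] at h2
    have : t = l ≫ tk k := Glued.unique hf hM hs hst h2 (by
      rw [comp_g, htkg, Cart.lift_g, pullback.lift_snd])
    rw [this, Category.assoc, ← he k, ← Category.assoc, hl]
  choose e heg hec he using key
  refine ⟨Q, e, hQ, heg, hec, fun w' w₀ l γ => ?_⟩
  haveI : Coh.IsQCoh (wTot M w').M := hq w'
  have hp := hg.pullback (StMod.bmap 𝒴 (l ≫ γ))
  let p₁ := fun k => pullback.fst (StMod.bmap 𝒴 (l ≫ γ)) (StMod.bmap 𝒴 (g k))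
  let Z : K → MObj.{u} := fun k => ⟨pullback (StMod.bmap 𝒴 (l ≫ γ)) (StMod.bmap 𝒴 (g k)), pb (p₁ k) (wTot M w').M⟩
  let sk : ∀ k, Z k ⟶ wTot M w' := fun k => can (p₁ k) _
  refine glue_unique (u := sk) ⟨fun k => cart_can _ _, hp.flat, hp.surj⟩
    (by rw [comp_g, mA_g, heg, heg, StMod.bmap_comp]) fun k => ?_
  haveI : Coh.IsQCoh (Z k).M := GlueSys.isQCoh_pb _ _ (hq w')
  obtain ⟨t, -, -, ht⟩ := exists_glued_arrow hf hM (l ≫ γ) (g k) (sk k) (cart_can _ _)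
    (pullback.snd (StMod.bmap 𝒴 (l ≫ γ)) (StMod.bmap 𝒴 (g k))) pullback.condition
  rw [← Category.assoc, he _ γ k _ _ t inferInstance ((cart_can _ _).comp (cart_mA hM l)) (ht.comp_mA hM),
    he _ (l ≫ γ) k _ _ t inferInstance (cart_can _ _) ht]

end TwDescLib
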