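import Groth.Agent.TwDescLib.Pieces

/-!
# Arrows given on local sections glue
-/

set_option autoImplicit false
set_option linter.all false
set_option backward.isDefEq.respectTransparency false
set_option backward.isDefEq.respectTransparency.types false
set_option maxHeartbeats 800000

noncomputable section

universe u v w v' w' t

open CategoryTheory CategoryTheory.Limits AlgebraicGeometry
open KFlatLib (pb)

namespace TwDescLib

variable {S : Scheme.{u}} {𝒴 : BasedCategory.{v, w} (Over S)} {W : Type t}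

/-- The category of the objects `f w`, with all the morphisms between them. -/
def ind (f : W → 𝒴.obj) : BasedCategory.{v, t} (Over S) where
  obj := InducedCategory 𝒴.obj f
  p := inducedFunctor f ⋙ 𝒴.p

/-- The inclusion. -/
def indIncl (f : W → 𝒴.obj) : ind f ⥤ᵇ 𝒴 where
  toFunctor := inducedFunctor f
  w := rfl

variable {f : W → 𝒴.obj}

/-- A morphism between the images as a morphism of the induced category. -/
def indHom {w' w : W} (l : f w' ⟶ f w) : @Quiver.Hom (ind f).obj _ w' w := InducedCategory.homMk l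

/-- The value on an index. -/
abbrev wTot (M : StMod.Mod (ind f)) (w : W) : MObj.{u} := ⟨StMod.sch 𝒴 (f w), M.obj w⟩

/-- The comparison arrow of a morphism between images. -/
def mA (M : StMod.Mod (ind f)) {w' w : W} (l : f w' ⟶ f w) : wTot M w' ⟶ wTot M w := totMap M (indHom l)

@[simp] theorem mA_g (M : StMod.Mod (ind f)) {w' w : W} (l : f w' ⟶ f w) : (mA M l).g = StMod.bmap 𝒴 l := rfl

theorem mA_id (M : StMod.Mod (ind f)) (w : W) : mA M (𝟙 (f w)) = 𝟙 (wTot M w) := totMap_id M w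

@[reassoc]
theorem mA_comp (M : StMod.Mod (ind f)) {w'' w' w : W} (l : f w'' ⟶ f w') (l' : f w' ⟶ f w) :
    mA M (l ≫ l') = mA M l ≫ mA M l' := totMap_comp M (indHom l) (indHom l')

theorem cart_mA {M : StMod.Mod (ind f)} (hM : M.IsCartesian) {w' w : W} (l : f w' ⟶ f w) : Cart (mA M l) :=
  cart_totMap hM _

/-- A natural family of arrows out of the values on the pieces. -/
structure PieceFam (M : StMod.Mod (ind f)) {η : 𝒴.obj} (P : MObj.{u}) {Y : Scheme.{u}}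
    (q : Y ⟶ StMod.sch 𝒴 η) (g : Y ⟶ P.X) where
  /-- the arrow of a piece -/
  app : ∀ p : Piece f η q, wTot M p.w ⟶ P
  app_g : ∀ p, (app p).g = p.h ≫ g
  nat : ∀ (p' p : Piece f η q) (l : f p'.w ⟶ f p.w), l ≫ p.γ = p'.γ → StMod.bmap 𝒴 l ≫ p.h = p'.h →
    mA M l ≫ app p = app p'

variable [FibCat.IsFibGrpd 𝒴.p] {M : StMod.Mod (ind f)} {η : 𝒴.obj} {R P : MObj.{u}}
  {q : R.X ⟶ StMod.sch 𝒴 η} {g : R.X ⟶ P.X}

theorem PieceFam.compat (hf : LocImage f) (hM : M.IsCartesian) (u : PieceFam M R q (𝟙 R.X))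
    (hu : ∀ p, Cart (u.app p)) (v : PieceFam M P q g) (p p' : Piece f η q) {C : MObj.{u}}
    (s : C ⟶ wTot M p.w) (t : C ⟶ wTot M p'.w) (hs : Cart s) (ht : Cart t)
    (h : s ≫ u.app p = t ≫ u.app p') : s ≫ v.app p = t ≫ v.app p' := by
  have hb : s.g ≫ p.h = t.g ≫ p'.h := by
    have := congrArg MHom.g h
    simpa [u.app_g] using this
  obtain ⟨K, δ, hδ⟩ := exists_pieces hf η (s.g ≫ p.h ≫ q)
  refine glue_unique (u := fun k => can (δ k).h C.M) ⟨fun k => cart_can _ _, hδ.flat, hδ.surj⟩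
    (by rw [comp_g, comp_g, v.app_g, v.app_g, ← Category.assoc, hb, Category.assoc]) fun k => ?_
  have e₁ : ((δ k).h ≫ s.g) ≫ StMod.bmap 𝒴 p.γ = StMod.bmap 𝒴 (δ k).γ := by
    rw [← p.e, ← (δ k).e, Category.assoc]
  have e₂ : ((δ k).h ≫ t.g) ≫ StMod.bmap 𝒴 p'.γ = StMod.bmap 𝒴 (δ k).γ := by
    refine (Category.assoc _ _ _).trans ((congrArg ((δ k).h ≫ ·) ?_).trans (δ k).e)
    rw [← p'.e, reassoc_of% hb]
  let l₁ := liftTo p.γ (δ k).γ _ e₁
  let l₂ := liftTo p'.γ (δ k).γ _ e₂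
  let p'' : Piece f η q := ⟨(δ k).w, (δ k).γ, (δ k).h ≫ s.g ≫ p.h, by rw [← (δ k).e]; simp [Category.assoc]⟩
  have n₁ : ∀ {P' : MObj.{u}} {g' : R.X ⟶ P'.X} (z : PieceFam M P' q g'), mA M l₁ ≫ z.app p = z.app p'' :=
    fun z => z.nat p'' p l₁ (liftTo_fac _ _ _ _) (by
      show StMod.bmap 𝒴 l₁ ≫ p.h = (δ k).h ≫ s.g ≫ p.h
      rw [bmap_liftTo, Category.assoc])
  have n₂ : ∀ {P' : MObj.{u}} {g' : R.X ⟶ P'.X} (z : PieceFam M P' q g'), mA M l₂ ≫ z.app p' = z.app p'' :=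
    fun z => z.nat p'' p' l₂ (liftTo_fac _ _ _ _) (by
      show StMod.bmap 𝒴 l₂ ≫ p'.h = (δ k).h ≫ s.g ≫ p.h
      rw [bmap_liftTo, Category.assoc, hb])
  let π := can (δ k).h C.M
  let c₁ := (cart_mA hM l₁).lift (π ≫ s) (𝟙 _) (by simp [π, l₁, bmap_liftTo])
  let c₂ := (cart_mA hM l₂).lift (π ≫ t) (𝟙 _) (by simp [π, l₂, bmap_liftTo])
  have f₁ : c₁ ≫ mA M l₁ = π ≫ s := Cart.fac _ _ _ _
  have f₂ : c₂ ≫ mA M l₂ = π ≫ t := Cart.fac _ _ _ _
  have hc : c₁ = c₂ := by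
    refine (hu p'').cancel (by rw [Cart.lift_g, Cart.lift_g]) ?_
    calc c₁ ≫ u.app p'' = (c₁ ≫ mA M l₁) ≫ u.app p := by rw [Category.assoc, n₁ u]
      _ = (c₂ ≫ mA M l₂) ≫ u.app p' := by rw [f₁, f₂, Category.assoc, Category.assoc, h]
      _ = c₂ ≫ u.app p'' := by rw [Category.assoc, n₂ u]
  calc π ≫ s ≫ v.app p = (c₁ ≫ mA M l₁) ≫ v.app p := by rw [f₁, Category.assoc]
    _ = (c₂ ≫ mA M l₂) ≫ v.app p' := by rw [Category.assoc, Category.assoc, n₁ v, n₂ v, hc]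
    _ = π ≫ t ≫ v.app p' := by rw [f₂, Category.assoc]

theorem PieceFam.exists_desc (hf : LocImage f) (hM : M.IsCartesian) [Coh.IsQCoh R.M]
    (u : PieceFam M R q (𝟙 R.X)) (hu : ∀ p, Cart (u.app p)) (v : PieceFam M P q g) :
    ∃ c : R ⟶ P, c.g = g ∧ ∀ p, u.app p ≫ c = v.app p := by
  obtain ⟨K, δ, hδ⟩ := exists_pieces hf η q
  have hg : ∀ k, (u.app (δ k)).g = (δ k).h := fun k => by rw [u.app_g, Category.comp_id]
  have hcov : IsFppf (fun k => (u.app (δ k)).g) := by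
    simp only [hg]; exact hδ
  obtain ⟨c, hc, hcv⟩ := exists_glue g (fun k => u.app (δ k)) (fun k => hu _) hcov.mem (fun k => v.app (δ k))
    (fun k => by rw [v.app_g, hg]) fun C i j s t _ hs ht h => u.compat hf hM hu v (δ i) (δ j) s t hs ht h
  refine ⟨c, hc, fun p => ?_⟩
  let Z : K → MObj.{u} := fun k => ⟨pullback p.h (δ k).h, pb (pullback.fst p.h (δ k).h) (wTot M p.w).M⟩
  let sk : ∀ k, Z k ⟶ wTot M p.w := fun k => can (pullback.fst p.h (δ k).h) _
  have hp := hδ.pullback p.h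
  refine glue_unique (u := sk) ⟨fun k => cart_can _ _, hp.flat, hp.surj⟩
    (by rw [comp_g, u.app_g, v.app_g, hc, Category.comp_id]) fun k => ?_
  have hk := (cart_can (pullback.fst p.h (δ k).h) (wTot M p.w).M).comp (hu p)
  let tk := (hu (δ k)).lift (sk k ≫ u.app p) (pullback.snd p.h (δ k).h) (by
    rw [comp_g, hg, u.app_g, Category.comp_id]; exact pullback.condition.symm)
  have ft : tk ≫ u.app (δ k) = sk k ≫ u.app p := Cart.fac _ _ _ _
  have htk : Cart tk := Cart.of_comp (by rw [ft]; exact hk) (hu (δ k))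
  have key := u.compat hf hM hu v p (δ k) (sk k) tk (cart_can _ _) htk ft.symm
  show sk k ≫ u.app p ≫ c = sk k ≫ v.app p
  rw [key, ← Category.assoc, ← ft, Category.assoc, hcv]

theorem PieceFam.desc_unique (hf : LocImage f) (u : PieceFam M R q (𝟙 R.X)) (hu : ∀ p, Cart (u.app p))
    {c c' : R ⟶ P} (hg : c.g = c'.g) (h : ∀ p, u.app p ≫ c = u.app p ≫ c') : c = c' := by
  obtain ⟨K, δ, hδ⟩ := exists_pieces hf η q
  have hg' : ∀ k, (u.app (δ k)).g = (δ k).h := fun k => by rw [u.app_g, Category.comp_id]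
  exact glue_unique (u := fun k => u.app (δ k))
    ⟨fun k => hu _, fun k => by rw [hg']; exact hδ.flat k, fun x => by
      obtain ⟨k, hk⟩ := hδ.surj x; exact ⟨k, by rw [hg']; exact hk⟩⟩ hg fun k => h _

theorem PieceFam.cart_desc (hf : LocImage f) (u : PieceFam M R q (𝟙 R.X)) (hu : ∀ p, Cart (u.app p))
    (c : R ⟶ P) (h : ∀ p, Cart (u.app p ≫ c)) : Cart c := by
  obtain ⟨K, δ, hδ⟩ := exists_pieces hf η q
  have hg' : ∀ k, (u.app (δ k)).g = (δ k).h := fun k => by rw [u.app_g, Category.comp_id]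
  exact cart_of_cover (u := fun k => u.app (δ k))
    ⟨fun k => hu _, fun k => by rw [hg']; exact hδ.flat k, fun x => by
      obtain ⟨k, hk⟩ := hδ.surj x; exact ⟨k, by rw [hg']; exact hk⟩⟩ c fun k => h _

end TwDescLib
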